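import Cfsg.Agent.Lib.LinExt.Inter

/-!
Over two elements, `E` quadratic and `V` of `E`-dimension two: a transvection arises.
-/

set_option autoImplicit false

namespace Cfsg.Agent.Lib.LinExt

open Module
open Cfsg.Agent.Lib.SympExt (InM ln img Inter)

namespace Four

/-- A matrix of order four from its sixteen entries. -/
def mk (l : Fin 16 → ZMod 2) : Matrix (Fin 4) (Fin 4) (ZMod 2) :=
  Matrix.of fun i j => l ⟨4 * i.val + j.val, by omega⟩

/-- The scalar of order three. -/
def om : Matrix (Fin 4) (Fin 4) (ZMod 2) := mk ![0,1,0,0, 1,1,0,0, 0,0,0,1, 0,0,1,1]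

/-- The conjugated scalar, from the image of the second basis vector. -/
def jm (a b c : ZMod 2) : Matrix (Fin 4) (Fin 4) (ZMod 2) :=
  Matrix.of fun i j =>
    (![![0,0,1,0], ![a,b,c,1], ![1,0,1,0],
      ![a + b * a + c, 1 + b + b * b, a + b * c, 1 + b]] : Fin 4 → Fin 4 → ZMod 2) j i

/-- The witnesses. -/
def cert (a b c : ZMod 2) : (Fin 16 → ZMod 2) × (Fin 16 → ZMod 2) × (Fin 16 → ZMod 2) × (Fin 16 → ZMod 2) ×
    (Fin 4 → ZMod 2) × (Fin 4 → ZMod 2) :=
  match a, b, c with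
  | 0, 0, 0 => (![0,0,1,0,0,0,0,1,1,1,0,0,1,0,0,0], ![0,0,0,1,0,0,1,1,1,0,0,0,0,1,0,0], ![0,1,1,1,0,1,0,1,1,1,1,0,0,1,0,0], ![1,1,1,1,0,0,0,1,1,1,0,0,0,1,0,1], ![1,0,0,1], ![0,1,1,0])
  | 0, 0, 1 => (![0,0,1,1,0,0,1,0,1,1,0,0,1,0,0,0], ![0,0,0,1,0,0,1,1,0,1,0,0,1,1,0,0], ![0,0,0,1,1,1,1,0,1,0,0,1,1,1,0,0], ![1,0,1,0,1,0,1,1,0,1,0,1,1,0,0,0], ![1,1,1,0], ![1,1,0,1])
  | 0, 1, 0 => (![0,0,1,1,0,0,1,0,1,1,0,0,1,0,0,0], ![0,0,0,1,0,0,1,1,0,1,0,0,1,1,0,0], ![0,0,0,1,0,1,1,1,0,1,0,0,1,1,0,0], ![0,0,1,1,0,0,1,0,1,1,1,0,1,0,0,0], ![0,0,1,0], ![0,1,0,0])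
  | 0, 1, 1 => (![1,1,1,1,1,0,1,0,1,1,0,0,1,0,0,0], ![0,0,0,1,0,0,1,1,0,1,0,1,1,1,1,1], ![0,1,1,0,0,0,1,1,0,0,1,0,1,0,0,0], ![0,0,0,1,1,0,1,0,0,0,1,0,0,1,1,0], ![1,0,1,1], ![0,1,1,1])
  | 1, 0, 0 => (![1,0,1,1,0,1,1,0,1,1,0,0,1,0,0,0], ![0,0,0,1,0,0,1,1,0,1,1,1,1,1,1,0], ![0,0,0,1,0,0,1,1,1,0,0,0,1,1,1,0], ![0,0,1,0,1,1,1,1,1,1,0,0,1,0,0,0], ![1,1,0,0], ![1,1,1,1])
  | 1, 0, 1 => (![1,0,1,1,0,1,1,0,1,1,0,0,1,0,0,0], ![0,0,0,1,0,0,1,1,0,1,1,1,1,1,1,0], ![0,1,0,1,0,0,1,1,0,1,1,1,1,0,1,0], ![1,0,1,1,0,1,1,0,1,0,1,0,1,1,1,0], ![0,0,1,1], ![0,1,0,0])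
  | 1, 1, 0 => (![0,0,1,1,0,0,1,0,1,1,0,0,1,0,0,0], ![0,0,0,1,0,0,1,1,0,1,0,0,1,1,0,0], ![1,1,0,1,0,0,1,1,0,1,0,0,1,1,0,0], ![0,0,1,1,0,0,1,0,1,1,0,1,1,0,0,1], ![0,0,1,1], ![1,1,0,0])
  | 1, 1, 1 => (![1,1,1,1,1,0,1,0,1,1,0,0,1,0,0,0], ![0,0,0,1,0,0,1,1,0,1,0,1,1,1,1,1], ![0,0,0,1,1,1,1,0,1,0,0,0,0,0,1,0], ![0,0,1,0,0,1,1,1,0,0,0,1,1,0,0,0], ![1,1,1,0], ![1,1,0,1])

/-- What the witnesses satisfy. -/
def Good (J : Matrix (Fin 4) (Fin 4) (ZMod 2)) (C C' D D' : Matrix (Fin 4) (Fin 4) (ZMod 2))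
    (u f : Fin 4 → ZMod 2) : Prop :=
  C * C' = 1 ∧ D * D' = 1 ∧ C * om = om * C ∧ D * J = J * D ∧ C * D = 1 + Matrix.vecMulVec u f ∧
    dotProduct f u = 0 ∧ (∃ i, u i ≠ 0) ∧ ∃ i, f i ≠ 0

theorem cert_good : ∀ a b c : ZMod 2, Good (jm a b c) (mk (cert a b c).1) (mk (cert a b c).2.1)
    (mk (cert a b c).2.2.1) (mk (cert a b c).2.2.2.1) (cert a b c).2.2.2.2.1 (cert a b c).2.2.2.2.2 := by
  unfold Good
  decide +kernel

end Four

open Four

variable {F E V : Type*} [Field F] [Field E] [Algebra F E] [AddCommGroup V] [Module F V] [Module E V]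
  [IsScalarTower F E V] [FiniteDimensional E V] [Finite E] [FiniteDimensional F V]
  {M : Subgroup (V ≃ₗ[F] V)}

theorem exists_transvection_four (hO : Over E M) (hF : Nat.card F = 2) (hE : finrank F E = 2)
    (h2 : finrank E V = 2) : ∃ (δ : V) (f : V →ₗ[F] F), δ ≠ 0 ∧ f ≠ 0 ∧ Cen M δ f := by
  classical
  haveI : Finite F := Finite.of_injective (algebraMap F E) (algebraMap F E).injective
  haveI : Fintype F := Fintype.ofFinite F
  haveI : Fintype E := Fintype.ofFinite E
  have hcF : Fintype.card F = 2 := by rw [← Nat.card_eq_fintype_card, hF]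
  let ε : ZMod 2 ≃+* F := ZMod.ringEquivOfPrime F Nat.prime_two hcF
  have hbit : ∀ x : F, x = 0 ∨ x = 1 := fun x => by
    obtain ⟨z, rfl⟩ := ε.surjective x
    rcases (show ∀ z : ZMod 2, z = 0 ∨ z = 1 by decide) z with rfl | rfl
    · exact Or.inl (map_zero ε)
    · exact Or.inr (map_one ε)
  have hcE : Fintype.card E = 4 := by rw [Module.card_eq_pow_finrank (K := F), hcF, hE]; norm_num
  have h20 : (2 : F) = 0 := by rw [← map_ofNat ε 2]; exact (congrArg ε (by decide : (2 : ZMod 2) = 0)).trans (map_zero ε)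
  have h20E : (2 : E) = 0 := by rw [← map_ofNat (algebraMap F E) 2, h20, map_zero]
  have hnegV : ∀ x : V, -x = x := fun x => by
    rw [neg_eq_iff_add_eq_zero, ← two_smul E x, h20E, zero_smul]
  obtain ⟨ω, hω0, hω1⟩ : ∃ ω : E, ω ≠ 0 ∧ ω ≠ 1 := by
    by_contra hno
    push Not at hno
    have h : (Finset.univ : Finset E).card ≤ ({0, 1} : Finset E).card :=
      Finset.card_le_card fun x _ => by
        simp only [Finset.mem_insert, Finset.mem_singleton]
        exact or_iff_not_imp_left.2 (hno x)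
    rw [Finset.card_univ, hcE] at h
    have := Finset.card_le_two (a := (0 : E)) (b := 1)
    omega
  have hω3 : ω ^ 3 = 1 := by
    have := FiniteField.pow_card_sub_one_eq_one ω hω0
    rwa [hcE] at this
  have hωq : ω * ω = -ω - 1 := by
    have h : (ω - 1) * (ω * ω + ω + 1) = 0 := by linear_combination hω3
    rcases mul_eq_zero.mp h with h | h
    · exact absurd (sub_eq_zero.mp h) hω1
    · linear_combination h
  have hli2 : ∀ c d : F, algebraMap F E c + algebraMap F E d * ω = 0 → c = 0 ∧ d = 0 := by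
    intro c d h
    rcases hbit d with rfl | rfl
    · rw [map_zero, zero_mul, add_zero, map_eq_zero] at h
      exact ⟨h, rfl⟩
    · exfalso
      rw [map_one, one_mul] at h
      rcases hbit c with rfl | rfl
      · rw [map_zero, zero_add] at h; exact hω0 h
      · rw [map_one] at h; exact hω1 (by linear_combination h - h20E)
  have hspan : ∀ e : E, ∃ c d : F, e = c • (1 : E) + d • ω := by
    let L : F × F → E := fun p => p.1 • (1 : E) + p.2 • ω
    have hL : Function.Bijective L := by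
      rw [Fintype.bijective_iff_injective_and_card, Fintype.card_prod, hcF, hcE]
      refine ⟨fun p q h => ?_, rfl⟩
      have h' := hli2 (p.1 - q.1) (p.2 - q.2) (by
        simp only [L, Algebra.smul_def, mul_one] at h
        rw [map_sub, map_sub]; linear_combination h)
      exact Prod.ext (sub_eq_zero.mp h'.1) (sub_eq_zero.mp h'.2)
    intro e
    obtain ⟨⟨c, d⟩, h⟩ := hL.2 e
    exact ⟨c, d, h.symm⟩
  -- the image of a line, the conjugated scalar
  obtain ⟨g, v, w₀, y₀, ψ, H⟩ := exists_hyp hO (hE ▸ Nat.prime_two)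
  set W := img E g v with hW
  obtain ⟨w, hwX, hw⟩ := Submodule.exists_mem_ne_zero_of_ne_bot (p := W ⊓ ln E w₀) fun e => by
    have h := H.dim
    rw [← hW, e, finrank_bot, hE] at h
    omega
  let mulω : V →ₗ[F] V := ((LinearMap.lsmul E V) ω).restrictScalars F
  set J : V →ₗ[F] V := (g : V →ₗ[F] V) ∘ₗ mulω ∘ₗ (g.symm : V →ₗ[F] V) with hJ
  have hJapp : ∀ x, J x = g (ω • g.symm x) := fun x => rfl
  have hJJ : ∀ x, J (J x) = J x + x := fun x => by
    rw [hJapp (J x), hJapp x, g.symm_apply_apply, smul_smul, hωq, sub_smul, neg_smul, one_smul, map_sub,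
      map_neg, g.apply_symm_apply, hnegV, sub_eq_add_neg, hnegV]
  have hJW : ∀ x ∈ W, J x ∈ W := by
    rintro _ ⟨_, ⟨e, rfl⟩, rfl⟩
    refine ⟨(ω * e) • v, SympExt.smul_mem_ln _ v, ?_⟩
    show g ((ω * e) • v) = g (ω • g.symm (g (e • v)))
    rw [g.symm_apply_apply, smul_smul]
  have hJinj : ∀ x, J x = 0 → x = 0 := fun x hx => by
    have h := hJJ x
    rw [hx, map_zero, zero_add] at h
    exact h.symm
  have hwW : w ∈ W := hwX.1
  have hline : ∀ x, x ∈ W → x ∈ ln (F := F) E w → ∃ c : F, x = c • w := fun x hx hxl => by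
    have hlw : ln (F := F) E w = ln E w₀ := SympExt.ln_eq hw (SympExt.self_mem_ln w) hwX.2
    have h1 : Submodule.span F {w} = W ⊓ ln E w₀ := Submodule.eq_of_le_of_finrank_le
      ((Submodule.span_singleton_le_iff_mem _ _).mpr hwX) (by
        have h := H.dim
        rw [← hW, hE] at h
        rw [finrank_span_singleton hw]
        omega)
    obtain ⟨c, hc⟩ := Submodule.mem_span_singleton.mp (h1.ge ⟨hx, hlw ▸ hxl⟩)
    exact ⟨c, hc.symm⟩
  -- the basis
  set y := J w with hy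
  have hyW : y ∈ W := hJW w hwW
  have hys : y ∉ Submodule.span E ({w} : Set V) := fun h => by
    obtain ⟨e, he⟩ := Submodule.mem_span_singleton.mp h
    obtain ⟨c, hc⟩ := hline y hyW ⟨e, he⟩
    rcases hbit c with rfl | rfl
    · exact hw (hJinj w (by rw [← hy, hc, zero_smul]))
    · rw [one_smul] at hc
      have h := hJJ w
      rw [← hy, hc, ← hy, hc] at h
      exact hw (by simpa using h)
  have hliE : ∀ a b : E, a • w + b • y = 0 → a = 0 ∧ b = 0 := by
    intro a b h
    by_cases hb : b = 0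
    · rw [hb, zero_smul, add_zero, smul_eq_zero] at h
      exact ⟨h.resolve_right hw, hb⟩
    · exfalso
      refine hys (Submodule.mem_span_singleton.mpr ⟨-(b⁻¹ * a), ?_⟩)
      rw [neg_smul, mul_smul, ← smul_neg, neg_eq_of_add_eq_zero_right h, smul_smul, inv_mul_cancel₀ hb, one_smul]
  let vec : Fin 4 → V := ![w, ω • w, y, ω • y]
  have hli : LinearIndependent F vec := by
    rw [Fintype.linearIndependent_iff]
    intro c hc
    simp only [Fin.sum_univ_four, vec, Matrix.cons_val] at hc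
    obtain ⟨ha, hb⟩ := hliE (algebraMap F E (c 0) + algebraMap F E (c 1) * ω)
      (algebraMap F E (c 2) + algebraMap F E (c 3) * ω) (by
        simp only [add_smul, mul_smul, algebraMap_smul]
        rw [← hc]; abel)
    obtain ⟨h0, h1⟩ := hli2 _ _ ha
    obtain ⟨h2', h3⟩ := hli2 _ _ hb
    intro i
    fin_cases i <;> assumption
  have hdim : finrank F V = 4 := by rw [← Module.finrank_mul_finrank F E V, hE, h2]
  let B : Basis (Fin 4) F V := basisOfLinearIndependentOfCardEqFinrank hli (by rw [Fintype.card_fin, hdim])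
  have hB : ∀ i, B i = vec i := fun i => by simp [B]
  let Φ : Matrix (Fin 4) (Fin 4) (ZMod 2) →+* Module.End F V :=
    (Matrix.toLinAlgEquiv B).toRingEquiv.toRingHom.comp ε.toRingHom.mapMatrix
  have hΦ : ∀ A i, Φ A (B i) = ∑ j, ε (A j i) • B j := fun A i => by
    show Matrix.toLinAlgEquiv B (A.map ε) (B i) = _
    rw [Matrix.toLinAlgEquiv_self]
    rfl
  have e0 : ε 0 = 0 := map_zero ε
  have e1 : ε 1 = 1 := map_one ε
  have homΦ : Φ om = mulω := by
    refine B.ext fun i => ?_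
    rw [hΦ, Fin.sum_univ_four, hB, hB, hB, hB, hB]
    show _ = ω • vec i
    fin_cases i <;>
      simp [vec, om, Four.mk, e0, e1, smul_smul, hωq, sub_smul, hnegV, sub_eq_add_neg, add_smul] <;> abel
  -- the second column
  obtain ⟨a, b, c, hq⟩ : ∃ a b c : ZMod 2, J (ω • w) = ε a • w + ε b • (ω • w) + ε c • y + ω • y := by
    have hs : J (ω • w) = B.repr (J (ω • w)) 0 • w + B.repr (J (ω • w)) 1 • (ω • w) +
        B.repr (J (ω • w)) 2 • y + B.repr (J (ω • w)) 3 • (ω • y) := by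
      conv_lhs => rw [← B.sum_repr (J (ω • w)), Fin.sum_univ_four, hB, hB, hB, hB]
      simp [vec]
    set q := B.repr (J (ω • w))
    rcases hbit (q 3) with h3 | h3
    · exfalso
      have hnW : ω • w ∉ W := fun h => by
        obtain ⟨c, hc⟩ := hline _ h (SympExt.smul_mem_ln ω w)
        obtain ⟨h0, h1⟩ := hli2 (-c) 1 (by
          have h' : (ω - algebraMap F E c) • w = 0 := by rw [sub_smul, algebraMap_smul, hc, sub_self]
          rw [map_neg, map_one, one_mul, neg_add_eq_sub]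
          exact (smul_eq_zero.mp h').resolve_right hw)
        exact one_ne_zero h1
      rw [h3, zero_smul, add_zero] at hs
      rcases hbit (q 1) with h1 | h1
      · rw [h1, zero_smul, add_zero] at hs
        refine hnW ?_
        have hm : J (ω • w) ∈ W := hs ▸ add_mem (W.smul_mem _ hwW) (W.smul_mem _ hyW)
        have h := hJJ (ω • w)
        have h' : ω • w = J (J (ω • w)) - J (ω • w) := by rw [h, add_sub_cancel_left]
        rw [h']
        exact sub_mem (hJW _ hm) hm
      · rw [h1, one_smul] at hs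
        refine hnW ?_
        have hm : J (ω • w) + ω • w ∈ W := by
          rw [hs, show q 0 • w + ω • w + q 2 • y + ω • w = q 0 • w + q 2 • y + (ω • w + ω • w) by abel,
            add_eq_zero_iff_eq_neg.mpr (hnegV _).symm, add_zero]
          exact add_mem (W.smul_mem _ hwW) (W.smul_mem _ hyW)
        have h' : ω • w = J (J (ω • w) + ω • w) := by
          rw [map_add, hJJ, show J (ω • w) + ω • w + J (ω • w) = J (ω • w) + J (ω • w) + ω • w by abel,
            add_eq_zero_iff_eq_neg.mpr (hnegV _).symm, zero_add]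
        rw [h']
        exact hJW _ hm
    · exact ⟨ε.symm (q 0), ε.symm (q 1), ε.symm (q 2), by simpa [h3] using hs⟩
  have hJy : J y = w + y := by rw [hy, hJJ, add_comm]
  have hJΦ : Φ (jm a b c) = J := by
    refine B.ext fun i => ?_
    rw [hΦ, Fin.sum_univ_four, hB, hB, hB, hB, hB]
    have h4 : J (ω • y) = J (ω • w) + ω • w + ε a • y + ε b • J (ω • w) + ε c • (w + y) := by
      have h := hJJ (ω • w)
      conv_lhs at h => rw [hq, map_add, map_add, map_add, map_smul J (ε a), map_smul J (ε b), map_smul J (ε c), ← hy, hJy]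
      rw [← h]
      have h2z : ∀ x : V, x + x = 0 := fun x => add_eq_zero_iff_eq_neg.mpr (hnegV x).symm
      calc J (ω • y) = J (ω • y) + ((ε a • y + ε a • y) + (ε b • J (ω • w) + ε b • J (ω • w)) +
            (ε c • (w + y) + ε c • (w + y))) := by simp only [h2z, add_zero]
        _ = _ := by abel
    fin_cases i
    · simp [vec, jm, e0, e1, ← hy]
    · simp [vec, jm, e1, hq]
    · simp [vec, jm, e0, e1, hJy]
    · simp only [vec, jm, Matrix.of_apply, Matrix.cons_val, map_add, map_mul, map_one, Fin.isValue, Fin.reduceFinMk]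
      rw [h4, hq]
      simp only [smul_add, add_smul, smul_smul, one_smul]
      match_scalars
      all_goals (try simp only [h20, h20E, mul_zero, zero_mul, add_zero])
      all_goals first | ring1 | linear_combination (algebraMap F E (ε c)) * h20E | linear_combination -(algebraMap F E (ε c)) * h20E
  -- elements of `M`
  have hdet1 : ∀ k : V ≃ₗ[F] V, LinearEquiv.det k = 1 := fun k => by
    refine Units.ext ?_
    rcases hbit (LinearEquiv.det k : F) with h | h
    · exact absurd h (Units.ne_zero _)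
    · exact h
  have hmem : ∀ (f f' : Module.End F V), f * f' = 1 → f' * f = 1 → f * mulω = mulω * f →
      ∃ k ∈ M, ∀ x, k x = f x := by
    intro f f' h1 h2 hc
    refine ⟨LinearEquiv.ofLinearMap f f' h1 h2, hO.lin _ (fun e x => ?_) (hdet1 _), fun x => rfl⟩
    obtain ⟨c, d, rfl⟩ := hspan e
    show f ((c • (1 : E) + d • ω) • x) = (c • (1 : E) + d • ω) • f x
    rw [add_smul, add_smul, smul_assoc, smul_assoc, smul_assoc, smul_assoc, one_smul, one_smul, map_add,
      map_smul, map_smul, show f (ω • x) = ω • f x from LinearMap.congr_fun hc x]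
  obtain ⟨hCC, hDD, hCom, hDJ, hCD, hfu, ⟨i₀, hu⟩, ⟨j₀, hf⟩⟩ := cert_good a b c
  set C := Four.mk (cert a b c).1
  set C' := Four.mk (cert a b c).2.1
  set D := Four.mk (cert a b c).2.2.1
  set D' := Four.mk (cert a b c).2.2.2.1
  set u := (cert a b c).2.2.2.2.1
  set fv := (cert a b c).2.2.2.2.2
  obtain ⟨k₁, hk₁, ek₁⟩ := hmem (Φ C) (Φ C') (by rw [← map_mul, hCC, map_one])
    (by rw [← map_mul, mul_eq_one_comm.mp hCC, map_one]) (by rw [← homΦ, ← map_mul, ← map_mul, hCom])
  obtain ⟨k₂, hk₂, ek₂⟩ := hmem ((g.symm : V →ₗ[F] V) * Φ D * (g : V →ₗ[F] V))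
    ((g.symm : V →ₗ[F] V) * Φ D' * (g : V →ₗ[F] V))
    (LinearMap.ext fun x => by
      simp only [Module.End.mul_apply, LinearEquiv.coe_coe, g.apply_symm_apply]
      rw [← Module.End.mul_apply, ← map_mul, hDD, map_one, Module.End.one_apply, g.symm_apply_apply,
        Module.End.one_apply])
    (LinearMap.ext fun x => by
      simp only [Module.End.mul_apply, LinearEquiv.coe_coe, g.apply_symm_apply]
      rw [← Module.End.mul_apply, ← map_mul, mul_eq_one_comm.mp hDD, map_one, Module.End.one_apply,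
        g.symm_apply_apply, Module.End.one_apply])
    (LinearMap.ext fun x => by
      have h := LinearMap.congr_fun (congrArg Φ hDJ) (g x)
      rw [map_mul, map_mul, hJΦ] at h
      simp only [Module.End.mul_apply, hJapp, g.symm_apply_apply] at h
      show g.symm (Φ D (g (ω • x))) = ω • g.symm (Φ D (g x))
      rw [h, g.symm_apply_apply])
  have hk₂' : ∀ x, (g * k₂ * g⁻¹) x = Φ D x := fun x => by
    rw [LinearEquiv.mul_apply, LinearEquiv.mul_apply, ek₂]
    simp [Module.End.mul_apply, show g⁻¹ x = g.symm x from rfl]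
  set δ : V := ∑ j, ε (u j) • B j with hδ
  set f : V →ₗ[F] F := B.constr F fun i => ε (fv i) with hfdef
  refine ⟨δ, f, fun e => ?_, fun e => ?_, ?_, k₁ * (g * k₂ * g⁻¹),
    mul_mem hk₁ (mul_mem (mul_mem H.hg hk₂) (inv_mem H.hg)), fun x => ?_⟩
  · have h := Fintype.linearIndependent_iff.mp B.linearIndependent _ (hδ.symm.trans e) i₀
    exact hu (ε.injective (h.trans (map_zero ε).symm))
  · have h := LinearMap.congr_fun e (B j₀)
    rw [hfdef, Basis.constr_basis, LinearMap.zero_apply] at h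
    exact hf (ε.injective (h.trans (map_zero ε).symm))
  · rw [hδ, map_sum]
    have h := congrArg ε hfu
    rw [map_zero, dotProduct, map_sum] at h
    rw [← h]
    exact Finset.sum_congr rfl fun j _ => by rw [map_smul, hfdef, Basis.constr_basis, smul_eq_mul, map_mul, mul_comm]
  · rw [LinearEquiv.mul_apply, hk₂', ek₁, ← Module.End.mul_apply, ← map_mul, hCD]
    have : Φ (1 + Matrix.vecMulVec u fv) = LinearMap.id + f.smulRight δ := B.ext fun i => by
      rw [map_add, map_one, LinearMap.add_apply, LinearMap.add_apply, Module.End.one_apply, LinearMap.id_apply,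
        hΦ, LinearMap.smulRight_apply, hfdef, Basis.constr_basis, hδ, Finset.smul_sum]
      congr 1
      exact Finset.sum_congr rfl fun j _ => by rw [Matrix.vecMulVec_apply, map_mul, smul_smul, mul_comm]
    rw [this]
    rfl

end Cfsg.Agent.Lib.LinExt
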