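import Cfsg.Agent.Lib.LinExt.Inter

/-!
In `E`-dimension two a transvection arises, except over two elements with a quadratic field.
-/

set_option autoImplicit false

namespace Cfsg.Agent.Lib.LinExt

open Module
open Cfsg.Agent.Lib.SympExt (InM ln img Inter)

variable {F E V : Type*} [Field F] [Field E] [Algebra F E] [AddCommGroup V] [Module F V] [Module E V]
  [IsScalarTower F E V]

/-- A map of the line of `v`, as a map of `V` through the functional `φ`. -/
def up (φ : V →ₗ[E] E) (v : V) (C : E →ₗ[F] E) : V →ₗ[F] V :=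
  (LinearMap.toSpanSingleton E V v).restrictScalars F ∘ₗ C ∘ₗ φ.restrictScalars F

@[simp] theorem up_apply (φ : V →ₗ[E] E) (v : V) (C : E →ₗ[F] E) (x : V) : up φ v C x = C (φ x) • v := rfl

/-- The elementary map of a line. -/
def tt (τ : E →ₗ[F] F) (b : E) : E →ₗ[F] E := LinearMap.id + τ.smulRight b

/-- A multiplication conjugated by an elementary map, less itself. -/
def xx (τ : E →ₗ[F] F) (b e : E) : E →ₗ[F] E :=
  tt τ b ∘ₗ LinearMap.mul F E e ∘ₗ tt τ (-b) - LinearMap.mul F E e

theorem xx_apply (τ : E →ₗ[F] F) (b e x : E) :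
    xx τ b e x = τ (e * x) • b - τ x • (e * b) - (τ x * τ (e * b)) • b := by
  simp only [xx, tt, LinearMap.sub_apply, LinearMap.comp_apply, LinearMap.add_apply, LinearMap.id_apply,
    LinearMap.smulRight_apply, LinearMap.mul_apply', smul_neg, mul_add, mul_neg, mul_smul_comm, map_add, map_neg,
    map_smul, smul_eq_mul]
  module

theorem exists_nonclosed (hr : (finrank F E).Prime) (h3 : 3 ≤ finrank F E) [Finite E] {τ : E →ₗ[F] F}
    (hτ : τ ≠ 0) {b : E} (hb : b ≠ 0) (hτb : τ b = 0) :
    ∃ e f : E, τ (e * b) = 0 ∧ τ (f * b) = 0 ∧ τ (e * f * b) ≠ 0 := by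
  haveI : FiniteDimensional F E := Module.Finite.of_finite
  by_contra hno
  push Not at hno
  let S : Subalgebra F E :=
    { carrier := {e | τ (e * b) = 0}
      mul_mem' := fun {e f} he hf => hno e f he hf
      add_mem' := fun {e f} he hf => by
        show τ _ = 0
        rw [add_mul, map_add, show τ (e * b) = 0 from he, show τ (f * b) = 0 from hf, add_zero]
      algebraMap_mem' := fun c => by
        show τ _ = 0
        rw [← Algebra.smul_def, map_smul, hτb, smul_zero] }
  haveI := Subalgebra.isSimpleOrder_of_finrank_prime F E hr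
  set L : E →ₗ[F] F := τ ∘ₗ LinearMap.mulRight F b with hL
  have hSL : Subalgebra.toSubmodule S = LinearMap.ker L := by ext x; rfl
  have hker : finrank F E ≤ finrank F ↥(LinearMap.ker L) + 1 := by
    have h1 := L.finrank_range_add_finrank_ker
    have h2 := Submodule.finrank_le (LinearMap.range L)
    rw [finrank_self] at h2
    omega
  rcases IsSimpleOrder.eq_bot_or_eq_top S with hS | hS
  · have h1 : finrank F ↥(Subalgebra.toSubmodule S) = 1 := by
      rw [hS, Subalgebra.finrank_toSubmodule, Subalgebra.finrank_bot]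
    rw [hSL] at h1
    omega
  · obtain ⟨x, hx⟩ : ∃ x, τ x ≠ 0 := by
      by_contra h
      push Not at h
      exact hτ (LinearMap.ext h)
    refine hx ?_
    have : τ (x / b * b) = 0 := (hS ▸ Algebra.mem_top : x / b ∈ S)
    rwa [div_mul_cancel₀ _ hb] at this

variable [FiniteDimensional E V] [Finite E] [FiniteDimensional F V] {M : Subgroup (V ≃ₗ[F] V)}

theorem exists_transvection_two (hO : Over E M) (hr : (finrank F E).Prime) (h2 : finrank E V = 2)
    (hne : 3 ≤ finrank F E ∨ ∃ s : F, s ≠ 0 ∧ s ≠ 1) :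
    ∃ (δ : V) (f : V →ₗ[F] F), δ ≠ 0 ∧ f ≠ 0 ∧ Cen M δ f := by
  classical
  haveI : FiniteDimensional F E := Module.Finite.of_finite
  have hr2 := hr.two_le
  obtain ⟨g, v, w, y, ψ, H⟩ := exists_hyp hO hr
  obtain ⟨u, hu⟩ := exists_notMem_span h2.ge v
  obtain ⟨φ, hφ, hφu⟩ := exists_psi hu
  have hφv : φ v = 0 := hφ v (Submodule.mem_span_singleton_self v)
  obtain ⟨ψ₀, -, hψ₀⟩ := exists_psi (show v ∉ (⊥ : Submodule E V) from fun h => H.hv (by simpa using h))
  obtain ⟨lam, hlam⟩ : ∃ lam : E →ₗ[F] F, lam 1 = 1 := LinearMap.exists_leftInverse_of_injective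
      (LinearMap.toSpanSingleton F E 1) (LinearMap.ker_eq_bot.mpr (smul_left_injective F one_ne_zero))
      |>.imp fun l hl => by simpa using LinearMap.congr_fun hl 1
  set τ : E →ₗ[F] F := lam ∘ₗ ψ.restrictScalars F ∘ₗ (g : V →ₗ[F] V) ∘ₗ
    (LinearMap.toSpanSingleton E V v).restrictScalars F with hτdef
  have himg : ∀ e : E, g (e • v) ∈ img E g v := fun e => ⟨_, SympExt.smul_mem_ln e v, rfl⟩
  have hτ : ∀ e : E, ψ (g (e • v)) = algebraMap F E (τ e) := fun e => by
    obtain ⟨c, hc⟩ := H.psi_scal (himg e)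
    simp [hτdef, hc, Algebra.algebraMap_eq_smul_one, hlam]
  obtain ⟨e₁, he₁⟩ : ∃ e, τ e = 1 := by
    obtain ⟨_, ⟨e, rfl⟩, he⟩ := H.hy
    refine ⟨e, (algebraMap F E).injective ?_⟩
    rw [← hτ, map_one]
    exact (congrArg ψ he).trans H.hψy
  have hτ0 : τ ≠ 0 := fun e => by simp [e] at he₁
  have hX : ∀ b : E, τ b = 0 → ∃ a : E, g (b • v) = a • w := fun b hb => by
    obtain ⟨x₀, c, hx₀, hxc⟩ := H.scal _ (himg b)
    obtain ⟨a, rfl⟩ := (Submodule.mem_inf.mp hx₀).2
    refine ⟨a, ?_⟩
    have h1 := hτ b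
    rw [hxc, hb, map_zero] at h1
    change ψ (a • w + c • y) = 0 at h1
    rw [map_add, map_smul, H.hψw, smul_zero, zero_add, LinearMap.map_smul_of_tower, H.hψy,
      ← Algebra.algebraMap_eq_smul_one, map_eq_zero] at h1
    rw [hxc, h1, zero_smul, add_zero]
    rfl
  -- the maps of the line realised in `M`
  let R : (E →ₗ[F] E) → Prop := fun C => InM M (up φ v C)
  have Rz : ∀ (C C' : E →ₗ[F] E) x, up φ v C (up φ v C' x) = 0 := fun C C' x => by simp [hφv]
  have Radd : ∀ C C', R C → R C' → R (C + C') := fun C C' h h' => by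
    have e : up φ v (C + C') = up φ v C + up φ v C' := by ext x; simp [add_smul]
    show InM M _
    rw [e]
    exact h.add h' (Rz _ _)
  have Rneg : ∀ C, R C → R (-C) := fun C h => by
    have e : up φ v (-C) = -(up φ v C) := by ext x; simp
    show InM M _
    rw [e]
    exact h.neg (Rz _ _)
  have Rmul : ∀ e : E, R (LinearMap.mul F E e) := fun e => by
    have h := hO.shear (M := M) (F := F) (ψ := e • φ) (w := v) (by simp [hφv])
    show InM M _
    convert h using 1
    ext x; simp
  let P : (E →ₗ[F] E) → Prop := fun p => ∃ k ∈ M, (∀ e : E, k (e • v) = p e • v) ∧ ∀ x, φ (k x) = φ x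
  let S : (E →ₗ[F] E) → Prop := fun p => ∀ C, R C → R (p ∘ₗ C)
  have PS : ∀ p, P p → S p := fun p ⟨k, hk, hkv, hkφ⟩ C hC =>
    hC.conj hk fun x => by simp [hkv, hkφ]
  have Ssub : ∀ p q, S p → S q → S (p - q) := fun p q hp hq C hC => by
    rw [LinearMap.sub_comp, sub_eq_add_neg]
    exact Radd _ _ (hp C hC) (Rneg _ (hq C hC))
  have Scomp : ∀ p q, S p → S q → S (p ∘ₗ q) := fun p q hp hq C hC => by
    rw [LinearMap.comp_assoc]
    exact hp _ (hq C hC)
  have SR : ∀ p, S p → R p := fun p hp => by
    have h := hp _ (Rmul 1)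
    rwa [show p ∘ₗ LinearMap.mul F E 1 = p by ext x; simp] at h
  -- norm-one multiplications and their conjugates
  have hdil : ∀ α : E, Algebra.norm F α = 1 → P (LinearMap.mul F E α) := fun α hα => by
    have hα0 : α ≠ 0 := fun e => by simp [e, Algebra.norm_zero] at hα
    obtain ⟨k, hk, ek⟩ := hO.dil hψ₀ hα hα0
    refine ⟨k, hk, fun e => ?_, fun x => ?_⟩
    · rw [ek, sh_apply, map_smul, hψ₀, smul_eq_mul, mul_one, smul_smul, ← add_smul, LinearMap.mul_apply']
      congr 1
      ring
    · simp [ek, hφv]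
  have hel : ∀ b : E, τ b = 0 → ∃ h ∈ M, ∀ e : E, h (e • v) = tt τ b e • v := fun b hb => by
    obtain ⟨a, ha⟩ := hX b hb
    obtain ⟨k, hk, ek⟩ := hO.shear (M := M) (F := F) (ψ := a • ψ) (w := w) (by simp [H.hψw])
    refine ⟨g⁻¹ * k * g, mul_mem (mul_mem (inv_mem H.hg) hk) H.hg, fun e => ?_⟩
    show g.symm (k (g (e • v))) = _
    rw [LinearEquiv.symm_apply_eq, ek, sh_apply, LinearMap.smul_apply, hτ, smul_eq_mul, mul_comm,
      ← Algebra.smul_def, smul_assoc, ← ha]
    simp [tt, add_smul]
  have SX : ∀ b : E, τ b = 0 → ∀ e : E, S (xx τ b e) := by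
    intro b hb
    let N : AddSubgroup E :=
      { carrier := {e | S (tt τ b ∘ₗ LinearMap.mul F E e ∘ₗ tt τ (-b)) ∧ S (LinearMap.mul F E e)}
        add_mem' := fun {e f} he hf => by
          refine ⟨fun C hC => ?_, fun C hC => ?_⟩
          · rw [map_add, LinearMap.add_comp, LinearMap.comp_add, LinearMap.add_comp]
            exact Radd _ _ (he.1 C hC) (hf.1 C hC)
          · rw [map_add, LinearMap.add_comp]
            exact Radd _ _ (he.2 C hC) (hf.2 C hC)
        zero_mem' := by
          have h0 : S 0 := fun C hC => by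
            have h := Radd _ _ hC (Rneg _ hC)
            rw [add_neg_cancel] at h
            rwa [LinearMap.zero_comp]
          simp only [Set.mem_setOf_eq, map_zero, LinearMap.zero_comp, LinearMap.comp_zero]
          exact ⟨h0, h0⟩
        neg_mem' := fun {e} he => by
          refine ⟨fun C hC => ?_, fun C hC => ?_⟩
          · rw [map_neg, LinearMap.neg_comp, LinearMap.comp_neg, LinearMap.neg_comp]
            exact Rneg _ (he.1 C hC)
          · rw [map_neg, LinearMap.neg_comp]
            exact Rneg _ (he.2 C hC) }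
    have hN : N = ⊤ := by
      rw [← top_le_iff, ← normOne_addClosure hr2, AddSubgroup.closure_le]
      intro α hα
      refine ⟨PS _ ?_, PS _ (hdil α hα)⟩
      obtain ⟨h, hh, ehv⟩ := hel b hb
      obtain ⟨k, hk, ek, ekφ⟩ := hdil α hα
      refine ⟨h * k * h⁻¹, mul_mem (mul_mem hh hk) (inv_mem hh), fun e => ?_, fun x => ?_⟩
      · show h (k (h.symm (e • v))) = _
        have e1 : h.symm (e • v) = tt τ (-b) e • v := by
          rw [LinearEquiv.symm_apply_eq, ehv]
          simp [tt, hb]
        rw [e1, ek, ehv]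
        rfl
      · show φ (h (k (h.symm x))) = φ x
        have hline : ∀ z, φ z = 0 → ∃ c : E, z = c • v := fun z hz => by
          have hli : LinearIndependent E ![v, u] := by
            rw [LinearIndependent.pair_iff' H.hv]
            exact fun a e => hu (e ▸ Submodule.smul_mem _ a (Submodule.mem_span_singleton_self v))
          have hsp := hli.span_eq_top_of_card_eq_finrank (by rw [Fintype.card_fin, h2])
          have hzm : z ∈ Submodule.span E (Set.range ![v, u]) := hsp ▸ Submodule.mem_top
          rw [Matrix.range_cons, Matrix.range_cons, Matrix.range_empty, Set.union_empty, Set.singleton_union,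
            Submodule.mem_span_pair] at hzm
          obtain ⟨c, d, rfl⟩ := hzm
          rw [map_add, map_smul, map_smul, hφv, hφu, smul_zero, zero_add, smul_eq_mul, mul_one] at hz
          exact ⟨c, by rw [hz, zero_smul, add_zero]⟩
        obtain ⟨c, hc⟩ := hline (k (h.symm x) - h.symm x) (by rw [map_sub, ekφ, sub_self])
        rw [sub_eq_iff_eq_add] at hc
        rw [hc, map_add h, h.apply_symm_apply, ehv, map_add, map_smul, hφv, smul_zero, zero_add]
    intro e
    exact Ssub _ _ (hN ▸ AddSubgroup.mem_top e : e ∈ N).1 (hN ▸ AddSubgroup.mem_top e : e ∈ N).2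
  obtain ⟨b, hb, hb0⟩ := Submodule.exists_mem_ne_zero_of_ne_bot (p := LinearMap.ker τ) fun e => by
    have h1 := τ.finrank_range_add_finrank_ker
    have h4 := Submodule.finrank_le (LinearMap.range τ)
    rw [e, finrank_bot] at h1
    rw [finrank_self] at h4
    omega
  have hτb : τ b = 0 := hb
  obtain ⟨c, hc, hR⟩ : ∃ c : F, c ≠ 0 ∧ R ((c • τ).smulRight b) := by
    rcases hne with h3 | ⟨s, hs0, hs1⟩
    · obtain ⟨e, f, he, hf, hef⟩ := exists_nonclosed hr h3 hτ0 hb0 hτb
      refine ⟨-τ (e * f * b), neg_ne_zero.mpr hef, ?_⟩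
      have h := SR _ (Scomp _ _ (SX b hτb e) (SX b hτb f))
      convert h using 1
      ext x
      simp [xx_apply, he, hf, hτb, map_sub, map_smul, ← mul_assoc, mul_smul_comm, smul_smul]
      module
    · set e := e₁ / b with he
      have heb : τ (e * b) = 1 := by rw [he, div_mul_cancel₀ _ hb0, he₁]
      refine ⟨s * s - s, ?_, ?_⟩
      · rw [← mul_sub_one]
        exact mul_ne_zero hs0 (sub_ne_zero.mpr hs1)
      have hs : S (LinearMap.mul F E (algebraMap F E s)) := by
        intro C hC
        have hN : AddSubgroup.closure {α : E | Algebra.norm F α = 1} = ⊤ := normOne_addClosure hr2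
        have : ∀ α ∈ AddSubgroup.closure {α : E | Algebra.norm F α = 1}, R (LinearMap.mul F E α ∘ₗ C) := by
          intro α hα
          induction hα using AddSubgroup.closure_induction with
          | mem α hα => exact PS _ (hdil α hα) C hC
          | zero => rw [map_zero, LinearMap.zero_comp]; have h := Radd _ _ hC (Rneg _ hC); rwa [add_neg_cancel] at h
          | add α β _ _ h h' => rw [map_add, LinearMap.add_comp]; exact Radd _ _ h h'
          | neg α _ h => rw [map_neg, LinearMap.neg_comp]; exact Rneg _ h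
        exact this _ (hN ▸ AddSubgroup.mem_top _)
      have h := SR _ (Ssub _ _ (Scomp _ _ hs (SX b hτb e)) (SX (s • b) (by rw [map_smul, hτb, smul_zero]) e))
      convert h using 1
      ext x
      simp [xx_apply, heb, ← Algebra.smul_def, map_smul, mul_smul_comm, smul_smul]
      module
  refine ⟨b • v, (c • τ) ∘ₗ φ.restrictScalars F, smul_ne_zero hb0 H.hv, fun e => ?_, ?_, ?_⟩
  · have h1 := LinearMap.congr_fun e (e₁ • u)
    simp [hφu, he₁, hc] at h1
  · simp [hφv]
  · have h : InM M (up φ v ((c • τ).smulRight b)) := hR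
    convert h using 1
    ext x; simp

end Cfsg.Agent.Lib.LinExt
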