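import Cfsg.Prelude.Def_GeometricClasses
import Cfsg.Agent.Lib.LinExt.Rank
import Cfsg.Agent.Lib.LinExt.Four
import Cfsg.Agent.Lib.LinGroup.Generation
import Cfsg.Agent.Lib.MaxClass.NotTop
import Cfsg.Agent.Lib.Forms.Bridge

/-!
The normaliser of a field of prime degree `r < n` is maximal in `GL_n` and in `SL_n`.
-/

set_option autoImplicit false
set_option linter.style.haveILetI false

namespace Cfsg.Agent.Lib.LinExt

open Matrix Cfsg.Agent.Lib

variable {F : Type*} [Field F] [Fintype F] {n : ℕ}

local notation "Vs" => (Fin n → F)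
local notation "Ms" => Matrix (Fin n) (Fin n) F

/-- An overgroup of the determinant-one normaliser, not inside the normaliser, contains `SL_n`; and the
normaliser itself has every determinant. -/
theorem normalizer_overgroup (r : ℕ) (hr : r.Prime) (hrn : r ∣ n) (hlt : r < n) (K : Subalgebra F Ms)
    (hK : Cfsg.Geo.IsFieldSubalgebra r K) :
    (∀ M : Subgroup (GL (Fin n) F),
      Cfsg.Geo.subalgebraNormalizer K ⊓ Cfsg.Geo.specialLinear (Fin n) F ≤ M →
      ¬ M ≤ Cfsg.Geo.subalgebraNormalizer K → Cfsg.Geo.specialLinear (Fin n) F ≤ M) ∧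
    ∀ c : Fˣ, ∃ g ∈ Cfsg.Geo.subalgebraNormalizer K, Matrix.GeneralLinearGroup.det g = c := by
  classical
  have hr2 := hr.two_le
  haveI : Nonempty (Fin n) := ⟨⟨0, by omega⟩⟩
  let i0 : Fin n := ⟨0, by omega⟩
  haveI : Nontrivial K := ⟨⟨1, 0, fun h => by
    have := congrArg (fun a : K => (a : Ms) i0 i0) h
    simp at this⟩⟩
  letI fK : Field K :=
    IsField.toField
      { exists_pair_ne := exists_pair_ne K
        mul_comm := fun x y => Subtype.ext (hK.comm x x.2 y y.2)
        mul_inv_cancel := fun {x} hx => by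
          obtain ⟨y, hy, hxy⟩ := hK.inv x x.2 (fun h => hx (Subtype.ext h))
          exact ⟨⟨y, hy⟩, Subtype.ext hxy⟩ }
  letI mK : Module K Vs :=
    { smul := fun a v => (a : Ms) *ᵥ v
      one_smul := fun v => Matrix.one_mulVec v
      mul_smul := fun a b v => (Matrix.mulVec_mulVec v _ _).symm
      smul_zero := fun a => Matrix.mulVec_zero _
      zero_smul := fun v => Matrix.zero_mulVec v
      smul_add := fun a v w => Matrix.mulVec_add _ v w
      add_smul := fun a b v => Matrix.add_mulVec _ _ v }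
  haveI hT : IsScalarTower F K Vs := ⟨fun c a v => Matrix.smul_mulVec c _ v⟩
  haveI : Finite K := Finite.of_injective _ Subtype.val_injective
  haveI : FiniteDimensional K Vs := Module.Finite.of_finite
  have hsm : ∀ (k : K) (v : Vs), k • v = (k : Ms) *ᵥ v := fun k v => rfl
  have hrK : Module.finrank F K = r := hK.finrank_eq
  have hrp : (Module.finrank F K).Prime := by rw [hrK]; exact hr
  have hd : 2 ≤ Module.finrank K Vs := by
    have h := Module.finrank_mul_finrank F K Vs
    rw [hrK, Module.finrank_fintype_fun_eq_card, Fintype.card_fin] at h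
    by_contra hc
    have : r * Module.finrank K Vs ≤ r * 1 := Nat.mul_le_mul_left r (by omega)
    omega
  set Φ := Forms.glEquiv (Fin n) F with hΦ
  -- linear maps over the field normalise it
  have hnorm : ∀ g : GL (Fin n) F,
      (∀ k ∈ K, (g : Ms) * k * ((g⁻¹ : GL (Fin n) F) : Ms) ∈ K) →
      g ∈ Cfsg.Geo.subalgebraNormalizer K := by
    intro g h a
    refine ⟨h a, fun ha => ?_⟩
    let f : K → K := fun x => ⟨_, h x x.2⟩
    have hf : Function.Injective f := fun x y hxy => Subtype.ext
      ((Units.mul_right_inj g).mp ((Units.mul_left_inj g⁻¹).mp (congrArg Subtype.val hxy)))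
    obtain ⟨x, hx⟩ := Finite.surjective_of_injective hf ⟨_, ha⟩
    exact ((Units.mul_right_inj g).mp ((Units.mul_left_inj g⁻¹).mp (congrArg Subtype.val hx))) ▸ x.2
  have hlinN : ∀ g : Vs ≃ₗ[F] Vs, (∀ (e : K) v, g (e • v) = e • g v) →
      Φ.symm g ∈ Cfsg.Geo.subalgebraNormalizer K := fun g hlin => hnorm _ fun k hk => by
    have e : ((Φ.symm g : GL (Fin n) F) : Ms) * k = k * ((Φ.symm g : GL (Fin n) F) : Ms) := by
      refine Matrix.ext_iff_mulVec.mpr fun x => ?_
      rw [← mulVec_mulVec, ← mulVec_mulVec, hΦ, Forms.glEquiv_symm_mulVec, Forms.glEquiv_symm_mulVec,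
        ← hsm ⟨k, hk⟩, hlin, hsm]
    rw [e, mul_assoc, ← Units.val_mul, mul_inv_cancel, Units.val_one, mul_one]
    exact hk
  have hdet : ∀ g : Vs ≃ₗ[F] Vs,
      (Matrix.GeneralLinearGroup.det (Φ.symm g) : F) = (LinearEquiv.det g : F) := fun g => by
    rw [LinearEquiv.coe_det, ← LinearMap.det_toMatrix']
    rw [Matrix.GeneralLinearGroup.val_det_apply]
    congr 1
  refine ⟨fun M hNM hMN => ?_, fun c => ?_⟩
  swap
  · obtain ⟨a, ha⟩ := FiniteField.norm_surjective F K (c : F)
    have ha0 : a ≠ 0 := fun e => c.ne_zero (by rw [← ha, e, Algebra.norm_zero])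
    obtain ⟨v, hv⟩ : ∃ v : Vs, v ≠ 0 := ⟨Pi.single i0 1, by simp⟩
    obtain ⟨ψ, -, hψ⟩ := exists_psi (show v ∉ (⊥ : Submodule K Vs) from fun h => hv (by simpa using h))
    have h1 : 1 + ψ ((a - 1) • v) = a := by rw [map_smul, hψ, smul_eq_mul, mul_one, add_sub_cancel]
    have hu : IsUnit (1 + ψ ((a - 1) • v)) := by rw [h1]; exact isUnit_iff_ne_zero.mpr ha0
    refine ⟨Φ.symm ((LinearEquiv.dilatransvection hu).restrictScalars F),
      hlinN _ fun e w => (LinearEquiv.dilatransvection hu).map_smul e w, Units.ext ?_⟩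
    rw [hdet, LinearEquiv.coe_det]
    refine (LinearMap.det_restrictScalars (f := (LinearEquiv.dilatransvection hu : Vs →ₗ[K] Vs))).trans ?_
    rw [LinearEquiv.dilatransvection.coe_toLinearMap, LinearMap.transvection.det, h1, ha]
  obtain ⟨A, hAM, hA⟩ := SetLike.not_le_iff_exists.mp hMN
  set M' := M.map Φ.toMonoidHom with hM'
  have hO : Over K M' := by
    refine ⟨fun g hlin hg => ?_, Φ A, Subgroup.mem_map_of_mem _ hAM, ?_⟩
    · refine ⟨Φ.symm g, hNM ⟨hlinN g hlin, ?_⟩, Φ.apply_symm_apply g⟩
      show Matrix.GeneralLinearGroup.det (Φ.symm g) = 1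
      exact Units.ext (by rw [hdet, hg])
    · by_contra hno
      push Not at hno
      apply hA
      set g := Φ A with hg
      choose φ hφ using hno
      have hge : ∀ (v w : Vs) (e : K), v ≠ 0 → (∀ f : K, w ≠ f • v) → φ v e = φ w e := by
        intro v w e hv hw
        have hgv : g v ≠ 0 := by simpa using hv
        have hind : ∀ f : K, g w ≠ f • g v := by
          intro f hf
          let L : K → K := fun e => φ v e
          have hL : Function.Injective L := fun a b hab => by
            have h1 : g (a • v) = g (b • v) := by rw [hφ, hφ]; exact congrArg (· • g v) hab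
            exact smul_left_injective K hv (g.injective h1)
          obtain ⟨e', he'⟩ := Finite.surjective_of_injective hL f
          exact hw e' (g.injective (by rw [hf, hφ, ← he']))
        have h1 := hφ (v + w) e
        rw [smul_add, map_add, map_add, smul_add, hφ, hφ] at h1
        have h2 : (φ v e - φ (v + w) e) • g v = (φ (v + w) e - φ w e) • g w := by
          rw [sub_smul, sub_smul, sub_eq_sub_iff_add_eq_add, h1]; abel
        have h3 : φ (v + w) e - φ w e = 0 := by
          by_contra h3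
          exact hind ((φ (v + w) e - φ w e)⁻¹ * (φ v e - φ (v + w) e))
            (by rw [mul_smul, h2, smul_smul, inv_mul_cancel₀ h3, one_smul])
        rw [h3, zero_smul, smul_eq_zero] at h2
        exact (sub_eq_zero.mp (h2.resolve_right hgv)).trans (sub_eq_zero.mp h3)
      obtain ⟨v₀, hv₀⟩ : ∃ v : Vs, v ≠ 0 := ⟨Pi.single i0 1, by simp⟩
      obtain ⟨v₁, hv₁⟩ := exists_notMem_span hd v₀
      have hv₁' : ∀ f : K, v₁ ≠ f • v₀ := fun f e => hv₁ (e ▸ Submodule.smul_mem _ _
        (Submodule.mem_span_singleton_self v₀))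
      have hall : ∀ (v : Vs) (e : K), g (e • v) = φ v₀ e • g v := by
        intro v e
        by_cases hv : v = 0
        · simp [hv]
        by_cases hdd : ∀ f : K, v ≠ f • v₀
        · rw [hφ, hge v₀ v e hv₀ hdd]
        push Not at hdd
        obtain ⟨f, rfl⟩ := hdd
        rw [hφ, hge (f • v₀) v₁ e hv fun f' e' => hv₁' (f' * f) (by rw [e', smul_smul]),
          ← hge v₀ v₁ e hv₀ hv₁']
      refine hnorm A fun k hk => ?_
      have e : (A : Ms) * k = (φ v₀ ⟨k, hk⟩ : Ms) * (A : Ms) := by
        refine Matrix.ext_iff_mulVec.mpr fun x => ?_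
        rw [← mulVec_mulVec, ← mulVec_mulVec, ← Forms.glEquiv_apply, ← Forms.glEquiv_apply]
        exact hall x ⟨k, hk⟩
      rw [e, mul_assoc, ← Units.val_mul, mul_inv_cancel, Units.val_one, mul_one]
      exact (φ v₀ ⟨k, hk⟩).2
  obtain ⟨δ, f, hδ, hf, hc⟩ : ∃ (δ : Vs) (f : Vs →ₗ[F] F), δ ≠ 0 ∧ f ≠ 0 ∧ Cen M' δ f := by
    by_cases h3 : 3 ≤ Module.finrank K Vs
    · exact exists_transvection_three hO hrp h3
    have h2 : Module.finrank K Vs = 2 := by omega
    by_cases hbig : 3 ≤ Module.finrank F K ∨ ∃ s : F, s ≠ 0 ∧ s ≠ 1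
    · exact exists_transvection_two hO hrp h2 hbig
    push Not at hbig
    refine exists_transvection_four hO ?_ (by omega) h2
    rw [Nat.card_eq_fintype_card]
    refine le_antisymm ?_ Fintype.one_lt_card
    calc Fintype.card F = (Finset.univ : Finset F).card := rfl
      _ ≤ ({0, 1} : Finset F).card := Finset.card_le_card fun x _ => by
          simp only [Finset.mem_insert, Finset.mem_singleton]
          exact or_iff_not_imp_left.2 (hbig.2 x)
      _ ≤ 2 := Finset.card_le_two
  -- all transvections, hence all of `SL_n`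
  let toGL : SpecialLinearGroup (Fin n) F →* GL (Fin n) F := SpecialLinearGroup.toGL
  have htop : M.comap toGL = ⊤ := LinGroup.eq_top_of_transvection_mem _ fun i j hij c => by
    obtain ⟨_, ⟨B, hB, rfl⟩, hBe⟩ := all_of_one hO hd (by rw [hrK]; exact hr2) hδ hf hc
      (Pi.single i c) (LinearMap.proj j) (by simp [Ne.symm hij])
    suffices e : toGL (SpecialLinearGroup.transvection hij c) = B by
      show toGL (SpecialLinearGroup.transvection hij c) ∈ M
      rw [e]; exact hB
    refine Units.ext (Matrix.ext_iff_mulVec.mpr fun x => ?_)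
    rw [← Forms.glEquiv_apply B]
    refine Eq.trans ?_ (hBe x).symm
    show Matrix.transvection i j c *ᵥ x = x + x j • Pi.single i c
    ext l
    rw [LinGroup.transvection_mulVec_apply]
    by_cases hl : l = i
    · subst hl; simp [mul_comm]
    · simp [hl]
  intro g hg
  have hg' : (g : Ms).det = 1 := congrArg Units.val (show Matrix.GeneralLinearGroup.det g = 1 from hg)
  have h : toGL ⟨(g : Ms), hg'⟩ ∈ M := (htop ▸ Subgroup.mem_top _ : _ ∈ M.comap toGL)
  rwa [show toGL ⟨(g : Ms), hg'⟩ = g from Units.ext rfl] at h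

/-- The maximality statements. -/
theorem isMaximal_fieldNormalizer (r : ℕ) (hr : r.Prime) (hrn : r ∣ n) (hlt : r < n) (K : Subalgebra F Ms)
    (hK : Cfsg.Geo.IsFieldSubalgebra r K) :
    IsCoatom (Cfsg.Geo.subalgebraNormalizer K) ∧
      Cfsg.Geo.IsMaximalIn (Cfsg.Geo.specialLinear (Fin n) F)
        (Cfsg.Geo.subalgebraNormalizer K ⊓ Cfsg.Geo.specialLinear (Fin n) F) := by
  have hn4 : 3 ≤ n := by
    have := hr.two_le
    omega
  have hns : ¬ Cfsg.Geo.specialLinear (Fin n) F ≤ Cfsg.Geo.subalgebraNormalizer K :=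
    MaxClass.not_le_subalgebraNormalizer (by rwa [Fintype.card_fin]) hr.two_le hK
  obtain ⟨hover, hdet⟩ := normalizer_overgroup r hr hrn hlt K hK
  refine ⟨⟨fun e => hns (e ▸ le_top), fun M hM => ?_⟩,
    lt_of_le_of_ne inf_le_right fun e => hns (e ▸ inf_le_left), fun M hM hMS => ?_⟩
  · have hS := hover M (inf_le_left.trans hM.le) fun h => hM.not_ge h
    refine top_unique fun g _ => ?_
    obtain ⟨h, hh, e⟩ := hdet (Matrix.GeneralLinearGroup.det g)
    have hm : h⁻¹ * g ∈ Cfsg.Geo.specialLinear (Fin n) F := by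
      show Matrix.GeneralLinearGroup.det (h⁻¹ * g) = 1
      rw [map_mul, map_inv, e, inv_mul_cancel]
    simpa using M.mul_mem (hM.le hh) (hS hm)
  · by_cases hle : M ≤ Cfsg.Geo.subalgebraNormalizer K
    · exact Or.inl (le_antisymm (le_inf hle hMS) hM)
    · exact Or.inr (le_antisymm hMS (hover M hM hle))

end Cfsg.Agent.Lib.LinExt
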