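import Cfsg.Agent.Lib.SympExt.Inter

/-!
An overgroup of the `E`-linear maps of determinant one: shears, moves, and the passage from one
transvection to all of them.
-/

set_option autoImplicit false

namespace Cfsg.Agent.Lib.LinExt

open Module
open Cfsg.Agent.Lib.SympExt (InM)

variable {F E V : Type*} [Field F] [Field E] [Algebra F E] [AddCommGroup V] [Module F V] [Module E V]
  [IsScalarTower F E V]

/-- `M` contains the `E`-linear maps of determinant one and an element that is not semilinear. -/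
structure Over (E : Type*) [Field E] [Module E V] (M : Subgroup (V ≃ₗ[F] V)) : Prop where
  lin : ∀ g : V ≃ₗ[F] V, (∀ (e : E) v, g (e • v) = e • g v) → LinearEquiv.det g = 1 → g ∈ M
  notSemi : ∃ g ∈ M, ∃ (v : V) (e : E), ∀ f : E, g (e • v) ≠ f • g v

variable {M : Subgroup (V ≃ₗ[F] V)}

/-- The map `x ↦ ψ x • w`, over `F`. -/
def sh (ψ : V →ₗ[E] E) (w : V) : V →ₗ[F] V := (ψ.smulRight w).restrictScalars F

@[simp] theorem sh_apply (ψ : V →ₗ[E] E) (w x : V) : sh (F := F) ψ w x = ψ x • w := rfl

variable [FiniteDimensional E V]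

theorem Over.of_det (hO : Over E M) (L : V ≃ₗ[E] V)
    (hdet : Algebra.norm F (LinearMap.det (L : V →ₗ[E] V)) = 1) : L.restrictScalars F ∈ M := by
  refine hO.lin _ (fun e v => L.map_smul e v) (Units.ext ?_)
  rw [LinearEquiv.coe_det, Units.val_one]
  exact (LinearMap.det_restrictScalars (f := (L : V →ₗ[E] V))).trans hdet

theorem Over.shear (hO : Over E M) {ψ : V →ₗ[E] E} {w : V} (h : ψ w = 0) : InM M (sh (F := F) ψ w) := by
  refine ⟨(LinearEquiv.transvection h).restrictScalars F, hO.of_det _ ?_, fun x => rfl⟩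
  rw [LinearEquiv.transvection.coe_toLinearMap, LinearMap.transvection.det, h, add_zero, map_one]

theorem Over.dil (hO : Over E M) {ψ : V →ₗ[E] E} {v : V} {α : E} (h : ψ v = 1) (hα : Algebra.norm F α = 1) (hα0 : α ≠ 0) :
    InM M (sh (F := F) ψ ((α - 1) • v)) := by
  have h1 : 1 + ψ ((α - 1) • v) = α := by rw [map_smul, h, smul_eq_mul, mul_one, add_sub_cancel]
  have hu : IsUnit (1 + ψ ((α - 1) • v)) := by
    rw [h1]
    exact isUnit_iff_ne_zero.mpr hα0
  refine ⟨(LinearEquiv.dilatransvection hu).restrictScalars F, hO.of_det _ ?_, fun x => ?_⟩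
  · rw [LinearEquiv.dilatransvection.coe_toLinearMap, LinearMap.transvection.det, h1, hα]
  · simp [LinearEquiv.dilatransvection.apply]

omit [IsScalarTower F E V] in
/-- A functional equal to one on a point outside a subspace and vanishing on it. -/
theorem exists_psi {S : Submodule E V} {y : V} (hy : y ∉ S) :
    ∃ ψ : V →ₗ[E] E, (∀ s ∈ S, ψ s = 0) ∧ ψ y = 1 := by
  obtain ⟨φ, hφ, hS⟩ := Submodule.exists_dual_map_eq_bot_of_notMem hy inferInstance
  refine ⟨(φ y)⁻¹ • φ, fun s hs => ?_, ?_⟩
  · have h : φ s ∈ S.map φ := ⟨s, hs, rfl⟩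
    rw [hS, Submodule.mem_bot] at h
    rw [LinearMap.smul_apply, h, smul_zero]
  · rw [LinearMap.smul_apply, smul_eq_mul, inv_mul_cancel₀ hφ]

omit [IsScalarTower F E V] in
theorem exists_notMem_span (h2 : 2 ≤ finrank E V) (v : V) : ∃ u, u ∉ Submodule.span E ({v} : Set V) := by
  by_contra hno
  push Not at hno
  have h : Submodule.span E ({v} : Set V) = ⊤ := top_unique fun x _ => hno x
  have h' := finrank_span_le_card (R := E) ({v} : Set V)
  rw [h, finrank_top] at h'
  simp only [Set.toFinset_singleton, Finset.card_singleton] at h'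
  omega

/-- `M` moves any non-zero vector to any other, linearly over `E`. -/
theorem exists_move (hO : Over E M) (h2 : 2 ≤ finrank E V) {x z : V} (hx : x ≠ 0) (hz : z ≠ 0) :
    ∃ k ∈ M, k x = z ∧ ∀ (e : E) v, k (e • v) = e • k v := by
  have step : ∀ {x z : V}, x ≠ 0 → z ∉ Submodule.span E ({x} : Set V) →
      ∃ k ∈ M, k x = z ∧ ∀ (e : E) v, k (e • v) = e • k v := by
    intro x z hx hzx
    have hxs : x ∉ Submodule.span E ({z - x} : Set V) := fun h => by
      obtain ⟨e, he⟩ := Submodule.mem_span_singleton.mp h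
      have he0 : e ≠ 0 := fun e0 => hx (by rw [← he, e0, zero_smul])
      refine hzx ?_
      have : z = (e⁻¹ + 1) • x := by
        rw [add_smul, one_smul]
        conv_rhs => rw [← he, smul_smul, inv_mul_cancel₀ he0, one_smul, he, sub_add_cancel]
      rw [this]
      exact Submodule.smul_mem _ _ (Submodule.mem_span_singleton_self x)
    obtain ⟨ψ, hψ, hψx⟩ := exists_psi hxs
    obtain ⟨k, hk, ek⟩ := hO.shear (ψ := ψ) (hψ _ (Submodule.mem_span_singleton_self _))
    refine ⟨k, hk, by rw [ek, sh_apply, hψx, one_smul, add_sub_cancel], fun e v => ?_⟩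
    rw [ek, ek, sh_apply, sh_apply, map_smul, smul_eq_mul, mul_smul, smul_add]
  by_cases hzx : z ∈ Submodule.span E ({x} : Set V)
  swap
  · exact step hx hzx
  obtain ⟨p, hp⟩ := exists_notMem_span h2 x
  obtain ⟨k, hk, e1, l1⟩ := step hx hp
  have hp0 : p ≠ 0 := fun e => hp (e ▸ Submodule.zero_mem _)
  have hzp : z ∉ Submodule.span E ({p} : Set V) := fun h => by
    obtain ⟨a, ha⟩ := Submodule.mem_span_singleton.mp h
    have ha0 : a ≠ 0 := fun e0 => hz (by rw [← ha, e0, zero_smul])
    refine hp ?_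
    have : p = a⁻¹ • z := by rw [← ha, smul_smul, inv_mul_cancel₀ ha0, one_smul]
    rw [this]
    exact Submodule.smul_mem _ _ hzx
  obtain ⟨k', hk', e2, l2⟩ := step hp0 hzp
  exact ⟨k' * k, mul_mem hk' hk, by rw [LinearEquiv.mul_apply, e1, e2],
    fun e v => by rw [LinearEquiv.mul_apply, LinearEquiv.mul_apply, l1, l2]⟩

/-- The functionals of the transvections of `M` with a given centre. -/
def Cen (M : Subgroup (V ≃ₗ[F] V)) (δ : V) (f : V →ₗ[F] F) : Prop := f δ = 0 ∧ InM M (f.smulRight δ)

omit [Module E V] [IsScalarTower F E V] [FiniteDimensional E V] in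
theorem Cen.add {δ : V} {f f' : V →ₗ[F] F} (h : Cen M δ f) (h' : Cen M δ f') : Cen M δ (f + f') := by
  refine ⟨by rw [LinearMap.add_apply, h.1, h'.1, add_zero], ?_⟩
  have e : (f + f').smulRight δ = f.smulRight δ + f'.smulRight δ := by ext x; simp [add_smul]
  rw [e]
  exact h.2.add h'.2 fun x => by simp [h.1]

omit [Module E V] [IsScalarTower F E V] [FiniteDimensional E V] in
theorem Cen.sub {δ : V} {f f' : V →ₗ[F] F} (h : Cen M δ f) (h' : Cen M δ f') : Cen M δ (f - f') := by
  refine ⟨by rw [LinearMap.sub_apply, h.1, h'.1, sub_zero], ?_⟩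
  have e : (f - f').smulRight δ = f.smulRight δ + -(f'.smulRight δ) := by ext x; simp [sub_smul]; abel
  rw [e]
  exact h.2.add (h'.2.neg fun x => by simp [h'.1]) fun x => by simp [h.1]

omit [Module E V] [IsScalarTower F E V] [FiniteDimensional E V] in
theorem Cen.conj {δ : V} {f : V →ₗ[F] F} (h : Cen M δ f) {k : V ≃ₗ[F] V} (hk : k ∈ M) :
    Cen M (k δ) (f ∘ₗ (k.symm : V →ₗ[F] V)) :=
  ⟨by simp [h.1], h.2.conj hk fun x => by simp⟩

omit [Module E V] [IsScalarTower F E V] [FiniteDimensional E V] in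
/-- The commutator of two transvections. -/
theorem Cen.comm {δ δ' : V} {f f' : V →ₗ[F] F} (h : Cen M δ f) (h' : Cen M δ' f') (hδ : f' δ = 0) :
    Cen M δ (f δ' • f') := by
  refine ⟨by rw [LinearMap.smul_apply, hδ, smul_zero], ?_⟩
  obtain ⟨k, hk, ek⟩ := h.2
  have e1 : InM M (f'.smulRight δ' + f δ' • f'.smulRight δ) := h'.2.conj hk fun x => by
    simp only [LinearMap.add_apply, LinearMap.smul_apply, LinearMap.smulRight_apply, ek, map_add, map_smul,
      hδ, smul_eq_mul, mul_zero, add_zero, h.1, zero_smul]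
    module
  have e : (f δ' • f').smulRight δ = (f'.smulRight δ' + f δ' • f'.smulRight δ) + -(f'.smulRight δ') := by
    ext x; simp [smul_smul]
  rw [e]
  exact e1.add (h'.2.neg fun x => by simp [h'.1]) fun x => by simp [hδ, h'.1]

variable [Finite E] [FiniteDimensional F V]

/-- The norm-one elements span `E` additively. -/
theorem normOne_addClosure (hr : 2 ≤ finrank F E) :
    AddSubgroup.closure {α : E | Algebra.norm F α = 1} = ⊤ := by
  haveI : Finite F := Finite.of_injective (algebraMap F E) (algebraMap F E).injective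
  haveI : FiniteDimensional F E := Module.Finite.of_finite
  classical
  set N : Set E := {α : E | Algebra.norm F α = 1} with hN
  let R : Subring E := Subring.closure N
  have hR : ∀ x ∈ R, x ∈ AddSubgroup.closure N := by
    intro x hx
    rw [Subring.mem_closure_iff] at hx
    refine AddSubgroup.closure_mono ?_ hx
    intro y hy
    exact Submonoid.closure_induction (fun y hy => hy) (by simp [hN]) (fun a b _ _ ha hb => by
      simp only [hN, Set.mem_setOf_eq] at *; rw [map_mul, ha, hb, mul_one]) hy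
  haveI : Fintype R := Fintype.ofFinite R
  letI : Field R := (Finite.isField_of_domain R).toField
  have hE : Nat.card E = Nat.card R ^ finrank R E := by
    haveI : Module.Finite R E := Module.Finite.of_finite
    exact Module.natCard_eq_pow_finrank
  have hm : finrank R E = 1 := by
    by_contra hm
    haveI : Module.Finite R E := Module.Finite.of_finite
    have hpos : 0 < finrank R E := Module.finrank_pos
    have hsq : Nat.card R ^ 2 ≤ Nat.card E := by
      rw [hE]; exact Nat.pow_le_pow_right Nat.card_pos (by omega)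
    set μ := Units.map (Algebra.norm F (S := E)) with hμ
    have hker : Nat.card μ.ker < Nat.card R := by
      let ι : μ.ker → R := fun x => ⟨((x : Eˣ) : E), Subring.subset_closure (by
        have := congrArg (Units.val) (MonoidHom.mem_ker.mp x.2)
        simpa [hμ, hN] using this)⟩
      have hinj : Function.Injective ι := fun x y h => Subtype.ext (Units.ext (congrArg Subtype.val h))
      haveI : Fintype μ.ker := Fintype.ofFinite _
      rw [Nat.card_eq_fintype_card, Nat.card_eq_fintype_card]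
      refine Fintype.card_lt_of_injective_of_notMem ι hinj (b := 0) ?_
      rintro ⟨x, hx⟩
      exact (x : Eˣ).ne_zero (congrArg Subtype.val hx)
    have hidx : Nat.card μ.ker * Nat.card Fˣ = Nat.card Eˣ := by
      rw [← Nat.card_congr (QuotientGroup.quotientKerEquivOfSurjective μ
        (FiniteField.unitsMap_norm_surjective F E)).toEquiv, mul_comm, ← Subgroup.card_eq_card_quotient_mul_card_subgroup]
    rw [Nat.card_units, Nat.card_units, Module.natCard_eq_pow_finrank (K := F) (V := E)] at hidx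
    rw [Module.natCard_eq_pow_finrank (K := F) (V := E)] at hsq
    have hq : 2 ≤ Nat.card F := Finite.one_lt_card
    have hpow : 1 ≤ Nat.card F ^ finrank F E := Nat.one_le_pow _ _ (by omega)
    set n := finrank F E
    have hkerge : Nat.card F ^ n ≤ Nat.card μ.ker * (Nat.card F - 1) + 1 := by omega
    have h1 : Nat.card F ^ (n - 1) < Nat.card μ.ker + 1 := by
      by_contra hc
      push Not at hc
      have hn : Nat.card F ^ n = Nat.card F ^ (n - 1) * Nat.card F := by rw [← pow_succ, Nat.sub_add_cancel (by omega)]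
      have : Nat.card μ.ker * (Nat.card F - 1) + 1 < Nat.card F ^ (n - 1) * Nat.card F := by
        have h' : Nat.card μ.ker * (Nat.card F - 1) ≤ (Nat.card F ^ (n - 1) - 1) * (Nat.card F - 1) :=
          Nat.mul_le_mul_right _ (by omega)
        have hp : 2 ≤ Nat.card F ^ (n - 1) := le_trans hq (Nat.le_self_pow (by omega) _)
        have h'' : (Nat.card F ^ (n - 1) - 1) * (Nat.card F - 1) + 1 < Nat.card F ^ (n - 1) * Nat.card F := by
          rw [Nat.sub_mul, Nat.mul_sub, one_mul, mul_one]
          have := Nat.le_mul_of_pos_right (Nat.card F ^ (n - 1)) (show 0 < Nat.card F by omega)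
          omega
        omega
      omega
    have h2 : (Nat.card F ^ (n - 1)) ^ 2 < Nat.card R ^ 2 := Nat.pow_lt_pow_left (by omega) (by omega)
    rw [← pow_mul] at h2
    have h3 : Nat.card F ^ n ≤ Nat.card F ^ ((n - 1) * 2) := Nat.pow_le_pow_right (by omega) (by omega)
    omega
  refine top_unique fun x _ => hR x ?_
  rw [hm, pow_one] at hE
  haveI : Fintype E := Fintype.ofFinite E
  have hbij : Function.Bijective (fun y : R => (y : E)) :=
    (Fintype.bijective_iff_injective_and_card _).mpr ⟨Subtype.val_injective, by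
      rw [← Nat.card_eq_fintype_card, ← Nat.card_eq_fintype_card, hE]⟩
  obtain ⟨y, rfl⟩ := hbij.2 x
  exact y.2

omit [AddCommGroup V] [Module F V] [Module E V] [IsScalarTower F E V] [FiniteDimensional E V] [FiniteDimensional F V] in
theorem exists_normOne_apply_ne (hr : 2 ≤ finrank F E) {lam : E →ₗ[F] F} (h : lam ≠ 0) :
    ∃ α : E, Algebra.norm F α = 1 ∧ lam α ≠ 0 := by
  by_contra hno
  push Not at hno
  refine h (LinearMap.ext fun x => ?_)
  have hle : AddSubgroup.closure {α : E | Algebra.norm F α = 1} ≤ lam.toAddMonoidHom.ker :=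
    (AddSubgroup.closure_le _).mpr fun α hα => hno α hα
  rw [normOne_addClosure hr] at hle
  exact hle (AddSubgroup.mem_top x)

/-- Every functional comes from a linear map to `E`. -/
theorem exists_repr {lam : E →ₗ[F] F} (hlam : lam ≠ 0) (h : V →ₗ[F] F) :
    ∃ ψ : V →ₗ[E] E, ∀ x, h x = lam (ψ x) := by
  haveI : FiniteDimensional F E := Module.Finite.of_finite
  let L : E →ₗ[F] Dual F E := LinearMap.mk₂ F (fun a e => lam (e * a))
    (fun a b e => by simp [mul_add]) (fun c a e => by simp)
    (fun a e f => by simp [add_mul]) (fun c a e => by simp)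
  have hL : Function.Injective L := by
    rw [← LinearMap.ker_eq_bot, LinearMap.ker_eq_bot']
    intro a ha
    by_contra ha0
    refine hlam (LinearMap.ext fun e => ?_)
    have h1 := LinearMap.congr_fun ha (e / a)
    simpa [L, div_mul_cancel₀ _ ha0] using h1
  have hs : Function.Surjective L :=
    (LinearMap.injective_iff_surjective_of_finrank_eq_finrank (by rw [Subspace.dual_finrank_eq])).mp hL
  let ψ0 : V → E := fun x => Function.surjInv hs (h ∘ₗ (LinearMap.toSpanSingleton E V x).restrictScalars F)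
  have key : ∀ x e, lam (e * ψ0 x) = h (e • x) := fun x e =>
    LinearMap.congr_fun (Function.surjInv_eq hs (h ∘ₗ (LinearMap.toSpanSingleton E V x).restrictScalars F)) e
  have uniq : ∀ a b : E, (∀ e, lam (e * a) = lam (e * b)) → a = b := fun a b hab =>
    hL (LinearMap.ext hab)
  refine ⟨{ toFun := ψ0, map_add' := fun x y => uniq _ _ fun e => ?_,
            map_smul' := fun c x => uniq _ _ fun e => ?_ }, fun x => ?_⟩
  · rw [mul_add, map_add, key, key, key, smul_add, map_add]
  · rw [key, RingHom.id_apply, smul_eq_mul, ← mul_assoc, key, smul_smul]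
  · show h x = lam (ψ0 x)
    have h1 := key x 1
    rw [one_mul, one_smul] at h1
    exact h1.symm

/-- A centre not on which the functional is identically zero gives all functionals killing the line. -/
theorem cen_of_line (hO : Over E M) {δ : V} (hδ : δ ≠ 0) {f : V →ₗ[F] F} (hf : Cen M δ f)
    {e₀ : E} (he₀ : f (e₀ • δ) ≠ 0) {h : V →ₗ[F] F} (hh : ∀ e : E, h (e • δ) = 0) : Cen M δ h := by
  set lam : E →ₗ[F] F := f ∘ₗ (LinearMap.toSpanSingleton E V (e₀ • δ)).restrictScalars F with hlam
  have hl : lam ≠ 0 := fun e => he₀ (by simpa [hlam] using LinearMap.congr_fun e 1)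
  obtain ⟨ψ, hψ⟩ := exists_repr hl h
  have hψδ : ψ δ = 0 := by
    by_contra hne
    refine hl (LinearMap.ext fun e => ?_)
    have h1 := hψ ((e / ψ δ) • δ)
    rw [hh, map_smul, smul_eq_mul, div_mul_cancel₀ _ hne] at h1
    rw [LinearMap.zero_apply, ← h1]
  obtain ⟨k, hk, ek⟩ := hO.shear (M := M) (F := F) (ψ := ψ) (w := e₀ • δ) (by rw [map_smul, hψδ, smul_zero])
  have hk' : k⁻¹ ∈ M := inv_mem hk
  have hsymm : ∀ x, k x = x + ψ x • (e₀ • δ) := ek
  have h1 := hf.conj hk'
  have hkδ : k⁻¹ δ = δ := by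
    show k.symm δ = δ
    rw [LinearEquiv.symm_apply_eq, hsymm, hψδ, zero_smul, add_zero]
  rw [hkδ] at h1
  replace h1 := h1.sub hf
  convert h1 using 1
  refine LinearMap.ext fun x => ?_
  show h x = f ((k⁻¹ : V ≃ₗ[F] V).symm x) - f x
  rw [show ((k⁻¹ : V ≃ₗ[F] V).symm x) = k x from rfl, hsymm, map_add, add_sub_cancel_left, hψ]
  simp [hlam]

/-- One transvection gives all. -/
theorem all_of_one (hO : Over E M) (h2 : 2 ≤ finrank E V) (hr : 2 ≤ finrank F E) {δ₀ : V} {f₀ : V →ₗ[F] F}
    (hδ₀ : δ₀ ≠ 0) (hf₀ : f₀ ≠ 0) (hc : Cen M δ₀ f₀) (δ : V) (h : V →ₗ[F] F) (hh : h δ = 0) :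
    InM M (h.smulRight δ) := by
  haveI : FiniteDimensional F E := Module.Finite.of_finite
  by_cases hδ : δ = 0
  · rw [hδ, show h.smulRight (0 : V) = 0 by ext; simp]
    exact SympExt.inM_zero
  -- every centre has a functional
  have some_f : ∀ δ : V, δ ≠ 0 → ∃ f : V →ₗ[F] F, f ≠ 0 ∧ Cen M δ f := fun δ hδ => by
    obtain ⟨k, hk, e, -⟩ := exists_move hO h2 hδ₀ hδ
    refine ⟨_, fun e0 => hf₀ (LinearMap.ext fun x => ?_), e ▸ hc.conj hk⟩
    simpa using LinearMap.congr_fun e0 (k x)
  -- one not vanishing on the line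
  have off : ∀ δ : V, δ ≠ 0 → ∃ f : V →ₗ[F] F, Cen M δ f ∧ ∃ e : E, f (e • δ) ≠ 0 := by
    intro δ hδ
    obtain ⟨f, hf0, hf⟩ := some_f δ hδ
    by_cases hline : ∃ e : E, f (e • δ) ≠ 0
    · exact ⟨f, hf, hline⟩
    push Not at hline
    obtain ⟨δ', hδ'⟩ : ∃ x, f x ≠ 0 := by
      by_contra hno
      push Not at hno
      exact hf0 (LinearMap.ext hno)
    have hδ'0 : δ' ≠ 0 := fun e => hδ' (by rw [e, map_zero])
    have hδs : δ ∉ Submodule.span E ({δ'} : Set V) := fun h => by
      obtain ⟨a, ha⟩ := Submodule.mem_span_singleton.mp h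
      have ha0 : a ≠ 0 := fun e0 => hδ (by rw [← ha, e0, zero_smul])
      exact hδ' (by rw [show δ' = a⁻¹ • δ by rw [← ha, smul_smul, inv_mul_cancel₀ ha0, one_smul]]; exact hline _)
    obtain ⟨f', hf'0, hf'⟩ := some_f δ' hδ'0
    by_cases hl' : ∃ e : E, f' (e • δ') ≠ 0
    · obtain ⟨e', he'⟩ := hl'
      obtain ⟨ψ, hψ, hψδ⟩ := exists_psi hδs
      obtain ⟨lam, hlam, hlam1⟩ : ∃ lam : E →ₗ[F] F, lam ≠ 0 ∧ lam 1 = 0 := by
        obtain ⟨x, -, hx⟩ := SetLike.exists_of_lt (lt_top_iff_ne_top.mpr
          (show Submodule.span F ({1} : Set E) ≠ ⊤ from fun e => by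
            have h := congrArg (fun S : Submodule F E => finrank F S) e
            simp only [finrank_span_singleton one_ne_zero, finrank_top] at h
            omega))
        obtain ⟨φ, hφ, hS⟩ := Submodule.exists_dual_map_eq_bot_of_notMem hx inferInstance
        refine ⟨φ, fun e => hφ (by rw [e]; rfl), ?_⟩
        have h : φ 1 ∈ (Submodule.span F ({1} : Set E)).map φ := ⟨1, Submodule.mem_span_singleton_self _, rfl⟩
        rwa [hS, Submodule.mem_bot] at h
      have hg : Cen M δ' (lam ∘ₗ ψ.restrictScalars F) := cen_of_line hO hδ'0 hf' he' fun e => by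
        simp [hψ _ (Submodule.smul_mem _ e (Submodule.mem_span_singleton_self δ'))]
      refine ⟨_, hf.comm hg (by simp [hψδ, hlam1]), ?_⟩
      obtain ⟨e, he⟩ : ∃ e, lam e ≠ 0 := by
        by_contra hno
        push Not at hno
        exact hlam (LinearMap.ext hno)
      exact ⟨e, by simp [hψδ, hδ', he]⟩
    · push Not at hl'
      obtain ⟨u, hu⟩ : ∃ u, f' u ≠ 0 := by
        by_contra hno
        push Not at hno
        exact hf'0 (LinearMap.ext hno)
      obtain ⟨e, he, he0⟩ := Submodule.exists_mem_ne_zero_of_ne_bot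
        (p := LinearMap.ker (f' ∘ₗ (LinearMap.toSpanSingleton E V u).restrictScalars F)) fun e => by
        have h1 := (f' ∘ₗ (LinearMap.toSpanSingleton E V u).restrictScalars F).finrank_range_add_finrank_ker
        have h4 := Submodule.finrank_le (LinearMap.range (f' ∘ₗ (LinearMap.toSpanSingleton E V u).restrictScalars F))
        rw [e, finrank_bot] at h1
        rw [finrank_self] at h4
        omega
      set δ₁ := e • u with hδ₁
      have he' : f' δ₁ = 0 := he
      have hδ₁s : δ₁ ∉ Submodule.span E ({δ'} : Set V) := fun h => by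
        obtain ⟨a, ha⟩ := Submodule.mem_span_singleton.mp h
        exact hu (by rw [show u = (e⁻¹ * a) • δ' by rw [mul_smul, ha, hδ₁, smul_smul, inv_mul_cancel₀ he0, one_smul]]
                     exact hl' _)
      -- move `δ₁` to `δ` and `δ'` off the kernel of `f`
      have hδ₁0 : δ₁ ≠ 0 := fun h0 => hδ₁s (h0 ▸ Submodule.zero_mem _)
      obtain ⟨k₀, hk₀, hk₀1, hk₀l⟩ := exists_move hO h2 hδ₁0 hδ
      have hsep : k₀ δ' ∉ Submodule.span E ({δ} : Set V) := fun h => by
        obtain ⟨a, ha⟩ := Submodule.mem_span_singleton.mp h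
        rw [← hk₀1, ← hk₀l] at ha
        have ha' : a • δ₁ = δ' := k₀.injective ha
        have ha0 : a ≠ 0 := fun a0 => hδ'0 (by rw [← ha', a0, zero_smul])
        exact hδ₁s (Submodule.mem_span_singleton.mpr
          ⟨a⁻¹, by rw [← ha', smul_smul, inv_mul_cancel₀ ha0, one_smul]⟩)
      obtain ⟨k₁, hk₁, hk₁δ, hk₁f, hk₁l⟩ : ∃ k ∈ M, k δ = δ ∧ f (k (k₀ δ')) ≠ 0 ∧
          ∀ (e : E) x, k (e • x) = e • k x := by
        by_cases hl0 : ∃ e : E, f (e • k₀ δ') ≠ 0
        · obtain ⟨e1, he1⟩ := hl0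
          obtain ⟨α, hα, hfα⟩ := exists_normOne_apply_ne (F := F) hr
            (lam := f ∘ₗ (LinearMap.toSpanSingleton E V (k₀ δ')).restrictScalars F)
            fun h0 => he1 (by simpa using LinearMap.congr_fun h0 e1)
          obtain ⟨ψ, hψ, hψ1⟩ := exists_psi hsep
          obtain ⟨k, hk, ek⟩ := hO.dil hψ1 hα (fun a0 => hfα (by simp [a0]))
          have hψδ := hψ δ (Submodule.mem_span_singleton_self δ)
          refine ⟨k, hk, by rw [ek, sh_apply, hψδ, zero_smul, add_zero], ?_, fun e x => ?_⟩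
          · rw [ek, sh_apply, hψ1, one_smul, sub_smul, one_smul, add_sub_cancel]
            simpa using hfα
          · rw [ek, ek, sh_apply, sh_apply, map_smul, smul_eq_mul, mul_smul, smul_add]
        · push Not at hl0
          have hk0s : k₀ δ' ∉ Submodule.span E ({δ, δ'} : Set V) := fun h => by
            obtain ⟨a, b, hab⟩ := Submodule.mem_span_pair.mp h
            have hb : b ≠ 0 := fun b0 => hsep (Submodule.mem_span_singleton.mpr
              ⟨a, by rw [← hab, b0, zero_smul, add_zero]⟩)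
            refine hδ' ?_
            have e1 : δ' = b⁻¹ • k₀ δ' - (b⁻¹ * a) • δ := by
              rw [← hab, smul_add, smul_smul, smul_smul, inv_mul_cancel₀ hb, one_smul, add_sub_cancel_left]
            rw [e1, map_sub, hl0, hline, sub_zero]
          obtain ⟨ψ, hψ, hψ1⟩ := exists_psi hk0s
          obtain ⟨k, hk, ek⟩ := hO.shear (ψ := ψ) (w := δ') (hψ _ (Submodule.subset_span (by simp)))
          refine ⟨k, hk, by rw [ek, sh_apply, hψ _ (Submodule.subset_span (by simp)), zero_smul, add_zero], ?_,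
            fun e x => by rw [ek, ek, sh_apply, sh_apply, map_smul, smul_eq_mul, mul_smul, smul_add]⟩
          rw [ek, sh_apply, hψ1, one_smul, map_add, show f (k₀ δ') = 0 by simpa using hl0 1, zero_add]
          exact hδ'
      have hk : (k₁ * k₀) δ₁ = δ := by rw [LinearEquiv.mul_apply, hk₀1, hk₁δ]
      have hkl : ∀ (e : E) x, (k₁ * k₀) (e • x) = e • (k₁ * k₀) x := fun e x => by
        rw [LinearEquiv.mul_apply, LinearEquiv.mul_apply, hk₀l, hk₁l]
      have hf'' := hf'.conj (mul_mem hk₁ hk₀)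
      have hsym : (k₁ * k₀).symm δ = δ₁ := by rw [LinearEquiv.symm_apply_eq, hk]
      have hsyml : ∀ e : E, (k₁ * k₀).symm (e • δ) = e • δ₁ := fun e => by
        rw [LinearEquiv.symm_apply_eq, hkl, hk]
      refine ⟨_, hf.comm hf'' (by simp [hsym, he']), e⁻¹, ?_⟩
      have h3 : (e⁻¹ : E) • δ₁ = u := by rw [hδ₁, smul_smul, inv_mul_cancel₀ he0, one_smul]
      simp [hsyml, h3, hu, hk₁f]
  obtain ⟨f, hf, e₀, he₀⟩ := off δ hδ
  obtain ⟨δ', hδ'⟩ := exists_notMem_span h2 δ
  have hδ'0 : δ' ≠ 0 := fun e => hδ' (e ▸ Submodule.zero_mem _)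
  obtain ⟨ψ, hψ, hψ'⟩ := exists_psi hδ'
  have hψδ : ψ δ = 0 := hψ δ (Submodule.mem_span_singleton_self δ)
  set h₁ : V →ₗ[F] F := h ∘ₗ sh ψ δ' with hh₁
  have c1 : Cen M δ h₁ := cen_of_line hO hδ hf he₀ fun e => by simp [hh₁, hψδ]
  obtain ⟨g, hg⟩ : ∃ g : V →ₗ[F] F, (∀ e : E, g (e • δ) = 0) ∧ g δ' = 1 := by
    obtain ⟨lam, hlam⟩ : ∃ lam : E →ₗ[F] F, lam 1 = 1 := LinearMap.exists_leftInverse_of_injective
      (LinearMap.toSpanSingleton F E 1) (LinearMap.ker_eq_bot.mpr (smul_left_injective F one_ne_zero))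
      |>.imp fun l hl => by simpa using LinearMap.congr_fun hl 1
    exact ⟨lam ∘ₗ ψ.restrictScalars F, fun e => by simp [hψδ], by simp [hψ', hlam]⟩
  obtain ⟨f', hf', e', he'⟩ := off δ' hδ'0
  have c2 : Cen M δ' (h - h₁) := cen_of_line hO hδ'0 hf' he' fun e => by simp [hh₁, hψ']
  have c3 := (cen_of_line hO hδ hf he₀ hg.1).comm c2 (by simp [hh₁, hψδ, hh])
  rw [hg.2, one_smul] at c3
  have c4 := c1.add c3
  rw [add_sub_cancel] at c4
  exact c4.2

end Cfsg.Agent.Lib.LinExt
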