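import Cfsg.Agent.Lib.LinExt.Basic

/-!
An image of an `E`-line meeting an `E`-line in a hyperplane, and the transvection it gives in `E`-dimension
at least three.
-/

set_option autoImplicit false

namespace Cfsg.Agent.Lib.LinExt

open Module
open Cfsg.Agent.Lib.SympExt (InM ln img Inter)

variable {F E V : Type*} [Field F] [Field E] [Algebra F E] [AddCommGroup V] [Module F V] [Module E V]
  [IsScalarTower F E V] [FiniteDimensional E V] [Finite E] [FiniteDimensional F V]
  {M : Subgroup (V ≃ₗ[F] V)}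

omit [FiniteDimensional E V] in
theorem inter_one (hO : Over E M) : Inter E M 1 := by
  obtain ⟨g, hg, v, e, he⟩ := hO.notSemi
  have hv : v ≠ 0 := fun h => he 0 (by simp [h])
  have hgv : g v ≠ 0 := by simpa using hv
  refine ⟨g, hg, v, g v, hv, hgv, fun h => ?_, ?_⟩
  · obtain ⟨f, hf⟩ := (h ▸ ⟨e • v, SympExt.smul_mem_ln e v, rfl⟩ : g (e • v) ∈ ln (F := F) E (g v))
    exact he f hf.symm
  · refine Submodule.one_le_finrank_iff.mpr fun h => hgv ?_
    have hm : g v ∈ img E g v ⊓ ln E (g v) := ⟨⟨v, SympExt.self_mem_ln v, rfl⟩, SympExt.self_mem_ln _⟩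
    rw [h] at hm
    simpa using hm

/-- Some image meets a line in a hyperplane. -/
theorem inter_hyperplane (hO : Over E M) (hr : (finrank F E).Prime) :
    ∀ k, 1 ≤ k → k < finrank F E → Inter E M k := by
  intro k hk
  induction k, hk using Nat.le_induction with
  | base => exact fun _ => inter_one hO
  | succ k hk ih =>
    intro hlt
    obtain ⟨g, hg, v, w, hv, hw, hne, hX⟩ := ih (by omega)
    by_cases hbig : k + 1 ≤ finrank F ↥(img E g v ⊓ ln E w)
    · exact ⟨g, hg, v, w, hv, hw, hne, hbig⟩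
    suffices Inter E M (finrank F ↥(img E g v ⊓ ln E w) + 1) by
      obtain ⟨g', hg', v', w', hv', hw', hne', h'⟩ := this
      exact ⟨g', hg', v', w', hv', hw', hne', by omega⟩
    obtain ⟨y₁, hy₁, hy₁X⟩ := SetLike.exists_of_lt (lt_of_le_of_ne
      (inf_le_left : img E g v ⊓ ln E w ≤ img E g v) fun e => by
        have := SympExt.finrank_inter_lt hv hw hne
        rw [e, SympExt.finrank_img g hv] at this
        omega)
    have hy₁w : y₁ ∉ Submodule.span E ({w} : Set V) := fun h => by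
      obtain ⟨e, he⟩ := Submodule.mem_span_singleton.mp h
      exact hy₁X ⟨hy₁, e, he⟩
    obtain ⟨ψ, hψ, hψ1⟩ := exists_psi hy₁w
    have hψw : ψ w = 0 := hψ w (Submodule.mem_span_singleton_self w)
    have hψX : ∀ x ∈ img E g v ⊓ ln E w, ψ x = 0 := fun x hx => by
      obtain ⟨e, rfl⟩ := (Submodule.mem_inf.mp hx).2
      show ψ (e • w) = 0
      rw [map_smul, hψw, smul_zero]
    have hsh : ∀ a : E, ∃ k ∈ M, ∀ x, k x = x + (a * ψ x) • w := fun a => by
      obtain ⟨k, hk, ek⟩ := hO.shear (M := M) (F := F) (ψ := a • ψ) (w := w) (by simp [hψw])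
      exact ⟨k, hk, fun x => ek x⟩
    choose sh hshM hsh_app using hsh
    exact SympExt.inter_step hr hg hv hw hne (by omega) (by omega) (ψ.restrictScalars F) hψX hy₁
      (by simp [hψ1]) sh hshM (fun a x hx => by simp [hsh_app, hψX x hx]) (fun a y _ => hsh_app a y)

/-- The data of an image of a line meeting a line in a hyperplane. -/
structure Hyp (E : Type*) [Field E] [Algebra F E] [Module E V] [IsScalarTower F E V]
    (M : Subgroup (V ≃ₗ[F] V)) (g : V ≃ₗ[F] V) (v w : V) (y : V) (ψ : V →ₗ[E] E) : Prop where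
  hg : g ∈ M
  hv : v ≠ 0
  hw : w ≠ 0
  hy : y ∈ img E g v
  hψw : ψ w = 0
  hψy : ψ y = 1
  dim : finrank F ↥(img E g v ⊓ ln E w) + 1 = finrank F E
  scal : ∀ x ∈ img E g v, ∃ (x₀ : V) (c : F), x₀ ∈ img E g v ⊓ ln E w ∧ x = x₀ + c • y

theorem exists_hyp (hO : Over E M) (hr : (finrank F E).Prime) :
    ∃ g v w y ψ, Hyp E M g v w y ψ := by
  have hr2 := hr.two_le
  obtain ⟨g, hg, v, w, hv, hw, hne, hX⟩ := inter_hyperplane hO hr (finrank F E - 1) (by omega) (by omega)
  have hlt := SympExt.finrank_inter_lt hv hw hne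
  obtain ⟨y, hy, hyX⟩ := SetLike.exists_of_lt (lt_of_le_of_ne
    (inf_le_left : img E g v ⊓ ln E w ≤ img E g v) fun e => by
      rw [e, SympExt.finrank_img g hv] at hlt
      omega)
  have hyw : y ∉ Submodule.span E ({w} : Set V) := fun h => by
    obtain ⟨e, he⟩ := Submodule.mem_span_singleton.mp h
    exact hyX ⟨hy, e, he⟩
  obtain ⟨ψ, hψ, hψ1⟩ := exists_psi hyw
  refine ⟨g, v, w, y, ψ, hg, hv, hw, hy, hψ w (Submodule.mem_span_singleton_self w), hψ1, by omega,
    fun x hx => ?_⟩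
  have hle : (img E g v ⊓ ln E w) ⊔ Submodule.span F {y} ≤ img E g v :=
    sup_le inf_le_left ((Submodule.span_singleton_le_iff_mem _ _).mpr hy)
  have hlt' : finrank F ↥(img E g v ⊓ ln E w) < finrank F ↥((img E g v ⊓ ln E w) ⊔ Submodule.span F {y}) :=
    Submodule.finrank_lt_finrank_of_lt (lt_of_le_of_ne le_sup_left fun e =>
      hyX (e ▸ Submodule.mem_sup_right (Submodule.mem_span_singleton_self y)))
  have heq := Submodule.eq_of_le_of_finrank_le hle (by rw [SympExt.finrank_img g hv]; omega)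
  rw [← heq] at hx
  obtain ⟨x₀, hx₀, z, hz, rfl⟩ := Submodule.mem_sup.mp hx
  obtain ⟨c, rfl⟩ := Submodule.mem_span_singleton.mp hz
  exact ⟨x₀, c, hx₀, rfl⟩

omit [FiniteDimensional E V] [Finite E] [FiniteDimensional F V] in
theorem Hyp.psi_scal {g : V ≃ₗ[F] V} {v w y : V} {ψ : V →ₗ[E] E} (H : Hyp E M g v w y ψ) {x : V}
    (hx : x ∈ img E g v) : ∃ c : F, ψ x = algebraMap F E c := by
  obtain ⟨x₀, c, hx₀, rfl⟩ := H.scal x hx
  obtain ⟨e, rfl⟩ := (Submodule.mem_inf.mp hx₀).2
  refine ⟨c, ?_⟩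
  show ψ (e • w + c • y) = _
  rw [map_add, map_smul, H.hψw, smul_zero, zero_add, LinearMap.map_smul_of_tower, H.hψy,
    Algebra.algebraMap_eq_smul_one]

/-- In `E`-dimension at least three a transvection arises. -/
theorem exists_transvection_three (hO : Over E M) (hr : (finrank F E).Prime) (h3 : 3 ≤ finrank E V) :
    ∃ (δ : V) (f : V →ₗ[F] F), δ ≠ 0 ∧ f ≠ 0 ∧ Cen M δ f := by
  classical
  obtain ⟨g, v, w, y, ψ, H⟩ := exists_hyp hO hr
  set X := img E g v ⊓ ln (F := F) E w with hX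
  obtain ⟨z, hz, hzX⟩ := SetLike.exists_of_lt (lt_of_le_of_ne (inf_le_right : X ≤ ln (F := F) E w) fun e => by
    have h1 : finrank F ↥X + 1 = finrank F E := H.dim
    rw [show X = ln (F := F) E w from e, SympExt.finrank_ln H.hw] at h1
    omega)
  obtain ⟨u, hu⟩ : ∃ u, u ∉ Submodule.span E ({v, g.symm z} : Set V) := by
    by_contra hno
    push Not at hno
    have h : Submodule.span E ({v, g.symm z} : Set V) = ⊤ := top_unique fun x _ => hno x
    have h1 := finrank_span_finset_le_card (R := E) (M := V) {v, g.symm z}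
    rw [Set.finrank, Finset.coe_pair, h, finrank_top] at h1
    have h2 := (Finset.card_le_two (a := v) (b := g.symm z))
    omega
  obtain ⟨φ, hφ, hφu⟩ := exists_psi hu
  have hφv : φ v = 0 := hφ v (Submodule.subset_span (by simp))
  have hφz : φ (g.symm z) = 0 := hφ _ (Submodule.subset_span (by simp))
  set A : V →ₗ[F] V := (g : V →ₗ[F] V) ∘ₗ sh φ v ∘ₗ (g.symm : V →ₗ[F] V) with hA
  have hAapp : ∀ x, A x = g (φ (g.symm x) • v) := fun x => rfl
  have hAM : InM M A := (hO.shear hφv).conj H.hg fun x => by simp [hA]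
  have hAim : ∀ x, A x ∈ img E g v := fun x => ⟨_, SympExt.smul_mem_ln _ v, rfl⟩
  have hAW : ∀ x ∈ img E g v, A x = 0 := by
    rintro _ ⟨_, ⟨e, rfl⟩, rfl⟩
    rw [hAapp, LinearEquiv.coe_coe, g.symm_apply_apply]
    show g (φ (e • v) • v) = 0
    rw [map_smul φ e v, hφv, smul_zero, zero_smul, map_zero]
  have hAw : ∀ e : E, A (e • w) = 0 := by
    have hle : X ⊔ Submodule.span F {z} ≤ LinearMap.ker A ⊓ ln E w :=
      sup_le (fun x hx => ⟨hAW x hx.1, hx.2⟩) ((Submodule.span_singleton_le_iff_mem _ _).mpr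
        ⟨show A z = 0 by rw [hAapp, hφz, zero_smul, map_zero], hz⟩)
    have hlt : finrank F X < finrank F ↥(X ⊔ Submodule.span F {z}) :=
      Submodule.finrank_lt_finrank_of_lt (lt_of_le_of_ne le_sup_left fun e =>
        hzX (e.ge (Submodule.mem_sup_right (Submodule.mem_span_singleton_self z))))
    have h1 := Submodule.finrank_mono hle
    have h2 : finrank F ↥X + 1 = finrank F E := H.dim
    have heq := Submodule.eq_of_le_of_finrank_le (inf_le_right : LinearMap.ker A ⊓ ln E w ≤ _)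
      (by rw [SympExt.finrank_ln H.hw]; omega)
    intro e
    exact (heq.ge (SympExt.smul_mem_ln (F := F) e w)).1
  obtain ⟨k, hk, ek⟩ := hO.shear (M := M) (F := F) (ψ := ψ) (w := w) H.hψw
  have e1 : InM M (A + sh ψ w ∘ₗ A) := hAM.conj hk fun x => by
    simp [ek, hAw]
  have e2 : InM M (sh ψ w ∘ₗ A) := by
    have h := e1.add (hAM.neg fun x => hAW _ (hAim x)) fun x => by simp [hAW _ (hAim x)]
    convert h using 1
    abel
  obtain ⟨f, hf⟩ : ∃ f : V →ₗ[F] F, ∀ x, ψ (A x) = algebraMap F E (f x) := by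
    obtain ⟨lam, hlam⟩ : ∃ lam : E →ₗ[F] F, lam 1 = 1 := LinearMap.exists_leftInverse_of_injective
      (LinearMap.toSpanSingleton F E 1) (LinearMap.ker_eq_bot.mpr (smul_left_injective F one_ne_zero))
      |>.imp fun l hl => by simpa using LinearMap.congr_fun hl 1
    refine ⟨lam ∘ₗ ψ.restrictScalars F ∘ₗ A, fun x => ?_⟩
    obtain ⟨c, hc⟩ := H.psi_scal (hAim x)
    simp [hc, Algebra.algebraMap_eq_smul_one, hlam]
  refine ⟨w, f, H.hw, fun e => ?_, ?_, ?_⟩
  · obtain ⟨_, ⟨e', rfl⟩, hy⟩ := H.hy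
    have h1 := hf (g (e' • u))
    rw [e, LinearMap.zero_apply, map_zero, hAapp, g.symm_apply_apply, map_smul φ, hφu,
      smul_eq_mul, mul_one] at h1
    have h2 : g (e' • v) = y := hy
    rw [h2, H.hψy] at h1
    exact one_ne_zero h1
  · have h1 := hf w
    have h0 : A w = 0 := by simpa using hAw 1
    rw [h0, map_zero] at h1
    exact (algebraMap F E).injective (by rw [map_zero]; exact h1.symm)
  · have e3 : f.smulRight w = sh ψ w ∘ₗ A := LinearMap.ext fun x => by simp [hf]
    rw [e3]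
    exact e2

end Cfsg.Agent.Lib.LinExt
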